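import Groth.Agent.ShriekLib.Etale
import Mathlib.CategoryTheory.Sites.Point.Skyscraper
import Groth.Prelude.Def_EtZar

/-!
# Sections with proper support commute with direct sums
-/

universe u

open CategoryTheory CategoryTheory.Limits AlgebraicGeometry Opposite

namespace ShriekLib

set_option backward.isDefEq.respectTransparency false
set_option backward.isDefEq.respectTransparency.types false
set_option linter.unusedSectionVars false
set_option linter.style.haveILetI false

open Groth.Agent

variable {X : Scheme.{u}} {ι : Type (u + 1)} {G : ι → EtCoh.Ab X} {c : Cofan G}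

open Classical in
/-- projection from a coproduct -/
noncomputable def coprojn (hc : IsColimit c) (i : ι) : c.pt ⟶ G i :=
  Cofan.IsColimit.desc hc fun k => if h : k = i then eqToHom (congrArg G h) else 0

theorem inj_coprojn_self (hc : IsColimit c) (i : ι) : c.inj i ≫ coprojn hc i = 𝟙 _ := by
  rw [coprojn, Cofan.IsColimit.fac, dif_pos rfl, eqToHom_refl]

theorem inj_coprojn_ne (hc : IsColimit c) {i k : ι} (h : k ≠ i) : c.inj k ≫ coprojn hc i = 0 := by
  rw [coprojn, Cofan.IsColimit.fac, dif_neg h]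

theorem stalk_coproduct (hc : IsColimit c) {Ω : Type u} [Field Ω] [IsSepClosed Ω]
    (ξ : Spec (CommRingCat.of Ω) ⟶ X) (y : (EtCoh.stalk ξ).obj c.pt) :
    {i | (EtCoh.stalk ξ).map (coprojn hc i) y ≠ 0}.Finite ∧
      ((∀ i, (EtCoh.stalk ξ).map (coprojn hc i) y = 0) → y = 0) := by
  classical
  let Φ := Scheme.pointSmallEtale ξ
  let S := EtCoh.stalk ξ
  let M : ι → Type (u + 1) := fun i => S.obj (G i)
  haveI : PreservesColimitsOfSize.{u + 1, u + 1} S :=
    inferInstanceAs (PreservesColimitsOfSize.{u + 1, u + 1} (Scheme.pointSmallEtale ξ).sheafFiber)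
  let c' : Cofan (fun i => S.obj (G i)) := Cofan.mk (S.obj c.pt) fun i => S.map (c.inj i)
  let hc' : IsColimit c' := isColimitMapCoconeCofanMkEquiv S G (fun i => c.inj i)
    (isColimitOfPreserves S (IsColimit.ofIsoColimit hc (Cofan.ext (Iso.refl _) (fun i => (Category.comp_id _)))))
  let ψ : S.obj c.pt ⟶ AddCommGrpCat.of (DirectSum ι M) :=
    Cofan.IsColimit.desc hc' fun i => AddCommGrpCat.ofHom (DirectSum.of M i)
  let φ : DirectSum ι M →+ S.obj c.pt := DirectSum.toAddMonoid fun i => (S.map (c.inj i)).hom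
  have hψ : ∀ (i : ι) (m : M i), ψ (S.map (c.inj i) m) = DirectSum.of M i m := fun i m =>
    ConcreteCategory.congr_hom (Cofan.IsColimit.fac hc' _ i) m
  have hφψ : ψ ≫ AddCommGrpCat.ofHom φ = 𝟙 _ := by
    refine Cofan.IsColimit.hom_ext hc' _ _ fun i => ConcreteCategory.hom_ext _ _ fun m => ?_
    show φ (ψ (S.map (c.inj i) m)) = S.map (c.inj i) m
    rw [hψ]
    exact DirectSum.toAddMonoid_of (β := M) _ i m
  have hcomp : ∀ i, S.map (coprojn hc i) = ψ ≫ AddCommGrpCat.ofHom (DFinsupp.evalAddMonoidHom (β := M) i) := by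
    intro i
    refine Cofan.IsColimit.hom_ext hc' _ _ fun k => ConcreteCategory.hom_ext _ _ fun m => ?_
    show S.map (coprojn hc i) (S.map (c.inj k) m) = (ψ (S.map (c.inj k) m)) i
    rw [hψ, ← ConcreteCategory.comp_apply, ← S.map_comp]
    by_cases h : i = k
    · subst h
      rw [inj_coprojn_self, S.map_id]
      exact (DirectSum.of_eq_same (β := M) i m).symm
    · rw [inj_coprojn_ne hc (Ne.symm h), Functor.map_zero]
      exact (DirectSum.of_eq_of_ne (β := M) k i m h).symm
  constructor
  · refine Set.Finite.subset (DFinsupp.support (ψ y)).finite_toSet fun i hi => ?_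
    rw [Set.mem_setOf_eq, hcomp i] at hi
    exact DFinsupp.mem_support_iff.2 hi
  · intro h
    have h0 : ψ y = 0 := DFinsupp.ext fun i => (ConcreteCategory.congr_hom (hcomp i) y).symm.trans (h i)
    have := ConcreteCategory.congr_hom hφψ y
    rw [show (ψ ≫ AddCommGrpCat.ofHom φ) y = φ (ψ y) from rfl, h0, map_zero] at this
    exact this.symm

theorem sect_eq_zero_of_coprojn (hc : IsColimit c) (U : X.Etale) (s : EtCoh.sect c.pt U)
    (h : ∀ i, (coprojn hc i).hom.app (op U) s = 0) : s = 0 := by
  refine eq_zero_of_sectSupp_empty ?_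
  rw [sectSupp_eq_germSupp]
  refine Set.eq_empty_iff_forall_notMem.2 fun x hx => ?_
  obtain ⟨k, _, _, ξ, z, rfl⟩ := EtFound.exists_algClosed_point U x
  refine (EtFound.mem_germSupp_iff s z).1 hx ((stalk_coproduct hc ξ _).2 fun i => ?_)
  refine ((Scheme.pointSmallEtale ξ).toPresheafFiber_naturality_apply (coprojn hc i).hom U z s).trans ?_
  rw [h i, map_zero]

theorem not_mem_sectSupp_of_coprojn (hc : IsColimit c) (U : X.Etale) (s : EtCoh.sect c.pt U) (x : U.left)
    (h : ∀ i, x ∉ EtShriek.sectSupp (G i) U ((coprojn hc i).hom.app (op U) s)) :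
    x ∉ EtShriek.sectSupp c.pt U s := by
  intro hx
  rw [sectSupp_eq_germSupp] at hx
  obtain ⟨k, _, _, ξ, z, rfl⟩ := EtFound.exists_algClosed_point U x
  refine (EtFound.mem_germSupp_iff s z).1 hx ((stalk_coproduct hc ξ _).2 fun i => ?_)
  refine ((Scheme.pointSmallEtale ξ).toPresheafFiber_naturality_apply (coprojn hc i).hom U z s).trans ?_
  by_contra hne
  apply h i
  rw [sectSupp_eq_germSupp]
  exact (EtFound.mem_germSupp_iff _ z).2 hne

theorem coprojn_sub_sum [DecidableEq ι] (hc : IsColimit c) (U : X.Etale) (s : EtCoh.sect c.pt U) (J : Finset ι) (i : ι) :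
    (coprojn hc i).hom.app (op U)
        (s - ∑ k ∈ J, (c.inj k).hom.app (op U) ((coprojn hc k).hom.app (op U) s)) =
      if i ∈ J then 0 else (coprojn hc i).hom.app (op U) s := by
  have key : ∀ k (m : EtCoh.sect (G k) U), (coprojn hc i).hom.app (op U) ((c.inj k).hom.app (op U) m) =
      (c.inj k ≫ coprojn hc i).hom.app (op U) m := fun k m => rfl
  have hne : ∀ k, k ≠ i → ∀ m : EtCoh.sect (G k) U, (coprojn hc i).hom.app (op U) ((c.inj k).hom.app (op U) m) = 0 := by
    intro k hk m
    rw [key, inj_coprojn_ne hc hk]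
    rfl
  rw [map_sub, map_sum]
  split_ifs with hi
  · rw [Finset.sum_eq_single i (fun k _ hk => hne k hk _) (fun h => absurd hi h), key, inj_coprojn_self]
    exact sub_self _
  · rw [Finset.sum_eq_zero (fun k hk => hne k (fun h => hi (h ▸ hk)) _), sub_zero]

/-- on a quasi-compact support a section of a direct sum is a finite sum -/
theorem exists_finset_of_isCompact (hc : IsColimit c) (U : X.Etale) (s : EtCoh.sect c.pt U)
    (hs : IsCompact (EtShriek.sectSupp c.pt U s)) :
    ∃ J : Finset ι, s = ∑ k ∈ J, (c.inj k).hom.app (op U) ((coprojn hc k).hom.app (op U) s) := by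
  classical
  let r : Finset ι → EtCoh.sect c.pt U := fun J =>
    s - ∑ k ∈ J, (c.inj k).hom.app (op U) ((coprojn hc k).hom.app (op U) s)
  have hmono : ∀ J J' : Finset ι, J ⊆ J' → ∀ x, x ∉ EtShriek.sectSupp c.pt U (r J) →
      x ∉ EtShriek.sectSupp c.pt U (r J') := by
    intro J J' hJ x hx
    refine not_mem_sectSupp_of_coprojn hc U _ x fun i => ?_
    rw [coprojn_sub_sum hc U s J' i]
    split_ifs with hi
    · rw [sectSupp_zero]; exact id
    · intro hm
      apply hx
      refine sectSupp_app (coprojn hc i) U _ ?_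
      rw [coprojn_sub_sum hc U s J i, if_neg fun h => hi (hJ h)]
      exact hm
  have hpt : ∀ x : U.left, ∃ J, x ∉ EtShriek.sectSupp c.pt U (r J) := by
    intro x
    obtain ⟨k, _, _, ξ, z, rfl⟩ := EtFound.exists_algClosed_point U x
    refine ⟨(stalk_coproduct hc ξ ((Scheme.pointSmallEtale ξ).toPresheafFiber U z c.pt.obj s)).1.toFinset, ?_⟩
    refine not_mem_sectSupp_of_coprojn hc U _ _ fun i => ?_
    rw [coprojn_sub_sum hc U s _ i]
    split_ifs with hi
    · rw [sectSupp_zero]; exact id
    · rw [sectSupp_eq_germSupp]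
      intro hm
      refine (EtFound.mem_germSupp_iff _ z).1 hm ?_
      by_contra hne
      refine hi ((Set.Finite.mem_toFinset _).2 fun h0 => hne ?_)
      exact ((Scheme.pointSmallEtale ξ).toPresheafFiber_naturality_apply (coprojn hc i).hom U z s).symm.trans h0
  choose J hJ using hpt
  obtain ⟨T, hT⟩ := hs.elim_finite_subcover (fun x => (EtShriek.sectSupp c.pt U (r (J x)))ᶜ)
    (fun x => (isClosed_sectSupp _ _ _).isOpen_compl) fun x _ => Set.mem_iUnion.2 ⟨x, hJ x⟩
  refine ⟨T.biUnion J, sub_eq_zero.1 (eq_zero_of_sectSupp_empty (Set.eq_empty_iff_forall_notMem.2 fun x => ?_))⟩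
  show x ∉ EtShriek.sectSupp c.pt U (r (T.biUnion J))
  by_cases hx : x ∈ EtShriek.sectSupp c.pt U s
  · obtain ⟨y, hyT, hy⟩ := Set.mem_iUnion₂.1 (hT hx)
    exact hmono (J y) _ (Finset.subset_biUnion_of_mem J hyT) x hy
  · refine hmono ∅ _ (Finset.empty_subset _) x ?_
    simpa [r] using hx

variable {Y : Scheme.{u}} (f : X ⟶ Y) [LocallyOfFiniteType f]

theorem shriekSh_preservesCoproducts_big (ι : Type (u + 1)) : PreservesColimitsOfShape (Discrete ι) (shriekSh f) := by
  suffices H : ∀ G : ι → EtCoh.Ab X, PreservesColimit (Discrete.functor G) (shriekSh f) by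
    exact ⟨fun {K} => have := H fun i => K.obj ⟨i⟩; preservesColimit_of_iso_diagram _ Discrete.natIsoFunctor.symm⟩
  intro G
  haveI := IsGrothendieckAbelian.hasColimits (EtCoh.Ab X)
  haveI := IsGrothendieckAbelian.hasColimits (EtCoh.Ab Y)
  let κ := sigmaComparison (shriekSh f) G
  let c : Cofan G := Cofan.mk (∐ G) (Limits.Sigma.ι G)
  let hc : IsColimit c := coproductIsCoproduct G
  let c' : Cofan fun i => (shriekSh f).obj (G i) := Cofan.mk _ (Limits.Sigma.ι fun i => (shriekSh f).obj (G i))
  let hc' : IsColimit c' := coproductIsCoproduct _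
  have hκ : ∀ i, Limits.Sigma.ι (fun i => (shriekSh f).obj (G i)) i ≫ κ = (shriekSh f).map (Limits.Sigma.ι G i) :=
    fun i => ι_comp_sigmaComparison (shriekSh f) G i
  have hproj : ∀ i, κ ≫ (shriekSh f).map (coprojn hc i) = coprojn hc' i := by
    intro i
    refine Cofan.IsColimit.hom_ext hc' _ _ fun k => ?_
    show Limits.Sigma.ι _ k ≫ κ ≫ _ = _
    rw [← Category.assoc, hκ, ← Functor.map_comp, show Limits.Sigma.ι G k = c.inj k from rfl]
    by_cases h : k = i
    · subst h
      rw [inj_coprojn_self, inj_coprojn_self, (shriekSh f).map_id]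
    · rw [inj_coprojn_ne hc h, inj_coprojn_ne hc' h]
      refine ObjectProperty.hom_ext _ ?_
      ext V x
      rfl
  haveI : Mono κ := by
    have : ∀ V, Mono (κ.hom.app V) := fun V => (AddCommGrpCat.mono_iff_injective _).2
      ((injective_iff_map_eq_zero _).2 fun y hy => sect_eq_zero_of_coprojn hc' V.unop y fun i => by
        rw [← hproj i]
        show (((shriekSh f).map (coprojn hc i)).hom.app V) (κ.hom.app V y) = 0
        rw [hy, map_zero])
    have := NatTrans.mono_of_mono_app κ.hom
    exact (sheafToPresheaf _ _).mono_of_mono_map this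
  haveI : Epi κ := by
    refine (Sheaf.isLocallySurjective_iff_epi' _ κ).1 ⟨fun {V} t => (EtFound.mem_topology_iff _).2 fun v => ?_⟩
    obtain ⟨_, ⟨O, hO, rfl⟩, hvO, -⟩ := V.left.isBasis_affineOpens.exists_subset_of_mem_open
      (Set.mem_univ v) isOpen_univ
    let V' := EtFound.restrictEtale V O
    haveI : IsAffine V'.left := hO
    let g : V' ⟶ V := EtFound.restrictEtaleHom V O
    refine ⟨V', g, ⟨v, hvO⟩, ?_, rfl⟩
    let t' : EtShriek.shriekSubgroup f (∐ G) V' := ((shriekSh f).obj (∐ G)).obj.map g.op t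
    obtain ⟨hC, hP⟩ := (mem_shriekSubgroup_iff f _ V' t'.1).1 t'.2
    have hcpt : IsCompact (EtShriek.sectSupp (∐ G) _ t'.1) := by
      let i := (Scheme.IdealSheafData.vanishingIdeal ⟨_, hC⟩).subschemeι
      haveI : IsProper (i ≫ EtShriek.prV f V') := hP
      haveI : CompactSpace (Scheme.IdealSheafData.vanishingIdeal ⟨_, hC⟩).subscheme :=
        QuasiCompact.compactSpace_of_compactSpace (i ≫ EtShriek.prV f V')
      have := isCompact_range i.continuous
      rwa [QCoh.range_vanishing] at this
    obtain ⟨J, hJ⟩ := exists_finset_of_isCompact hc _ t'.1 hcpt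
    refine ⟨∑ k ∈ J, (Limits.Sigma.ι (fun i => (shriekSh f).obj (G i)) k).hom.app (op V')
      (((shriekSh f).map (coprojn hc k)).hom.app (op V') t'), ?_⟩
    rw [map_sum]
    refine Subtype.ext ?_
    refine ((AddSubgroup.val_finsetSum _ _ _).trans ?_).trans hJ.symm
    refine Finset.sum_congr rfl fun k _ => ?_
    exact congrArg Subtype.val (congr(($(hκ k)).hom.app (op V') (((shriekSh f).map (coprojn hc k)).hom.app (op V') t')))
  haveI : IsIso κ := isIso_of_mono_of_epi κ
  exact PreservesCoproduct.of_iso_comparison (shriekSh f) G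

theorem shriekSh_preservesCoproducts (ι : Type u) : PreservesColimitsOfShape (Discrete ι) (shriekSh f) :=
  haveI := shriekSh_preservesCoproducts_big f (ULift.{u + 1} ι)
  preservesColimitsOfShape_of_equiv (Discrete.equivalence (Equiv.ulift.{u + 1} (α := ι))) _

end ShriekLib
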