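import Groth.Agent.ShriekLib.Comp
import Groth.Agent.ShriekLib.Coprod

/-!
# Compactifications
-/

universe u

open CategoryTheory CategoryTheory.Limits AlgebraicGeometry Opposite

namespace ShriekLib

set_option backward.isDefEq.respectTransparency false
set_option backward.isDefEq.respectTransparency.types false
set_option linter.unusedSectionVars false
set_option linter.style.haveILetI false

open Groth.Agent

variable {X Xb Y : Scheme.{u}}

theorem isIso_shriekShι_of_isProper (fb : Xb ⟶ Y) [IsProper fb] (F : EtCoh.Ab Xb) :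
    IsIso ((shriekShι fb).app F) := by
  have : ∀ V, IsIso (((shriekShι fb).app F).hom.app V) := fun V =>
    (ConcreteCategory.isIso_iff_bijective _).2 ⟨fun a b h => Subtype.ext h, fun s => ⟨⟨s,
      (mem_shriekSubgroup_iff fb F V.unop s).2 (by
        haveI : IsProper (EtShriek.prV fb V.unop) := inferInstanceAs (IsProper (pullback.fst V.unop.hom fb))
        refine ⟨isClosed_sectSupp _ _ _, ?_⟩
        infer_instance)⟩, rfl⟩⟩
  have := NatIso.isIso_of_isIso_app ((shriekShι fb).app F).hom
  have : IsIso ((sheafToPresheaf Y.smallEtaleTopology AddCommGrpCat.{u + 1}).map ((shriekShι fb).app F)) := this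
  exact isIso_of_reflects_iso _ (sheafToPresheaf _ _)

variable (j : X ⟶ Xb) [IsOpenImmersion j] [EtShriek.JCont j]

theorem nonempty_compactification (fb : Xb ⟶ Y) [IsProper fb] :
    Nonempty (EtShriek.lowerShriek (j ≫ fb) ≅ EtShriek.extZero j ⋙ EtCoh.push fb) := by
  obtain ⟨e⟩ := nonempty_extZero_iso_lowerShriek j
  have := isIso_shriekShι_of_isProper fb
  have : IsIso (shriekShι fb) := NatIso.isIso_of_isIso_app _
  exact ⟨(shriekShIso (j ≫ fb)).symm ≪≫ shriekShComp j fb ≪≫
    Functor.isoWhiskerRight (shriekShIso j ≪≫ e.symm) _ ≪≫ Functor.isoWhiskerLeft _ (asIso (shriekShι fb))⟩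

/-- sections of `F` on `X` as sections on `X ×_{X'} X'` -/
noncomputable def topIso : EtCoh.top X ≅ (EtCoh.bc j).obj (EtCoh.top Xb) :=
  MorphismProperty.Over.isoMk (asIso (pullback.snd (𝟙 Xb) j)).symm
    (IsIso.inv_hom_id (pullback.snd (𝟙 Xb) j))

theorem nonempty_H0c {k : Type u} [Field k] (pb : Xb ⟶ Spec (CommRingCat.of k)) [IsProper pb] (F : EtCoh.Ab X) :
    Nonempty ((EtShriek.H0c (j ≫ pb) F) ≃+ EtCoh.sect ((EtShriek.extZero j).obj F) (EtCoh.top Xb)) := by
  obtain ⟨e⟩ := nonempty_extZero_iso_lowerShriek j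
  let B := (EtCoh.bc j).obj (EtCoh.top Xb)
  let c := topIso j
  have hc : EtShriek.prV j (EtCoh.top Xb) = c.inv.left ≫ j :=
    (Category.comp_id _).symm.trans pullback.condition
  haveI : IsIso c.inv.left := inferInstanceAs (IsIso (pullback.snd (𝟙 Xb) j))
  have key : ∀ s : EtCoh.sect F B, s ∈ EtShriek.shriekSubgroup j F (EtCoh.top Xb) ↔
      F.obj.map c.hom.op s ∈ EtShriek.H0c (j ≫ pb) F := by
    intro s
    have h1 : ∀ t : EtCoh.sect F (EtCoh.top X), EtShriek.HasProperSupport F (EtCoh.top X) t (j ≫ pb) ↔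
        ClSub.IsProperOver j (EtShriek.sectSupp F (EtCoh.top X) t) := by
      intro t
      constructor
      · rintro ⟨Z, hZ, hP⟩
        obtain ⟨hC, hP'⟩ := QCoh.IsProperOver.subset hP (isClosed_sectSupp _ _ _) hZ
        refine ⟨hC, ?_⟩
        haveI : IsProper (((Scheme.IdealSheafData.vanishingIdeal ⟨_, hC⟩).subschemeι ≫ j) ≫ pb) := by
          rw [Category.assoc]; exact hP'
        exact IsProper.of_comp _ pb
      · rintro ⟨hC, hP⟩
        refine ⟨_, le_rfl, hC, ?_⟩
        haveI := hP
        exact (inferInstance : IsProper (((Scheme.IdealSheafData.vanishingIdeal ⟨_, hC⟩).subschemeι ≫ j) ≫ pb)) |>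
          fun h => by rwa [Category.assoc] at h
    let H : AddSubgroup (EtCoh.sect F (EtCoh.top X)) :=
      { carrier := {t | ClSub.IsProperOver j (EtShriek.sectSupp F (EtCoh.top X) t)}
        zero_mem' := by
          show ClSub.IsProperOver _ _
          rw [sectSupp_zero]
          exact QCoh.isProperOver_empty
        add_mem' := fun {a b} ha hb => QCoh.IsProperOver.subset (QCoh.IsProperOver.union ha hb)
          (isClosed_sectSupp _ _ _) (sectSupp_add _ _ a b)
        neg_mem' := fun {a} ha => by
          show ClSub.IsProperOver _ _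
          rw [sectSupp_neg]
          exact ha }
    have hH : EtShriek.H0c (j ≫ pb) F = H :=
      le_antisymm ((AddSubgroup.closure_le H).2 fun t ht => (h1 t).1 ht)
        fun t ht => AddSubgroup.subset_closure ((h1 t).2 ht)
    rw [hH, mem_shriekSubgroup_iff]
    show _ ↔ ClSub.IsProperOver j (EtShriek.sectSupp F (EtCoh.top X) (F.obj.map c.hom.op s))
    constructor
    · intro h
      rw [sectSupp_map]
      haveI : IsIso c.hom.left := inferInstanceAs (IsIso (inv (pullback.snd (𝟙 Xb) j)))
      refine QCoh.IsProperOver.preimage (f := c.hom.left) ?_ h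
      rw [hc, ← Category.assoc]
      exact (congrArg (fun q : EtCoh.top X ⟶ EtCoh.top X => q.left ≫ j) c.hom_inv_id).trans (Category.id_comp j)
    · intro h
      have := QCoh.IsProperOver.preimage (f := c.inv.left) hc.symm h
      rw [← sectSupp_map] at this
      rwa [map_map, Iso.inv_hom_id, op_id, F.obj.map_id] at this
  let E : EtShriek.shriekSubgroup j F (EtCoh.top Xb) ≃+ EtShriek.H0c (j ≫ pb) F :=
    { toFun := fun s => ⟨F.obj.map c.hom.op s.1, (key s.1).1 s.2⟩
      invFun := fun t => ⟨F.obj.map c.inv.op t.1, (key _).2 (by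
        rw [map_map, Iso.hom_inv_id, op_id, F.obj.map_id]; exact t.2)⟩
      left_inv := fun s => Subtype.ext (by
        show F.obj.map c.inv.op (F.obj.map c.hom.op s.1) = s.1
        rw [map_map, Iso.inv_hom_id, op_id, F.obj.map_id]; rfl)
      right_inv := fun t => Subtype.ext (by
        show F.obj.map c.hom.op (F.obj.map c.inv.op t.1) = t.1
        rw [map_map, Iso.hom_inv_id, op_id, F.obj.map_id]; rfl)
      map_add' := fun a b => Subtype.ext (map_add _ _ _) }
  let i : (shriekSh j).obj F ≅ (EtShriek.extZero j).obj F := (shriekShIso j ≪≫ e.symm).app F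
  exact ⟨E.symm.trans (((sheafToPresheaf _ _ ⋙ (evaluation _ _).obj (op (EtCoh.top Xb))).mapIso i).addCommGroupIsoToAddEquiv)⟩

end ShriekLib
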