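import Groth.Agent.ShriekLib.Ext
import Groth.Agent.EtFound.ExtZeroExact
import Groth.Agent.AlgSpLib.EtLocalInst

/-!
# Extension by zero and sections with proper support for separated etale morphisms
-/

universe u

open CategoryTheory CategoryTheory.Limits AlgebraicGeometry Opposite

set_option linter.unusedSectionVars false
set_option linter.style.haveILetI false

namespace ShriekLib

set_option backward.isDefEq.respectTransparency false
set_option backward.isDefEq.respectTransparency.types false

open Groth.Agent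

variable {X U : Scheme.{u}} (j : U ⟶ X)

/-- `f_!` without sheafification -/
noncomputable def shriekSh [LocallyOfFiniteType j] : EtCoh.Ab U ⥤ EtCoh.Ab X where
  obj F := ⟨EtShriek.lowerShriekPre j F, isSheaf_lowerShriekPre j F⟩
  map φ := ObjectProperty.homMk ((EtShriek.lowerShriekPreFunctor j).map φ)
  map_id F := ObjectProperty.hom_ext _ ((EtShriek.lowerShriekPreFunctor j).map_id F)
  map_comp φ ψ := ObjectProperty.hom_ext _ ((EtShriek.lowerShriekPreFunctor j).map_comp φ ψ)

/-- `f_!` is already a sheaf -/
noncomputable def shriekShIso [LocallyOfFiniteType j] : shriekSh j ≅ EtShriek.lowerShriek j :=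
  (Functor.rightUnitor _).symm ≪≫
    Functor.isoWhiskerLeft (shriekSh j) (asIso (sheafificationAdjunction X.smallEtaleTopology AddCommGrpCat.{u + 1}).counit).symm

/-- the inclusion `f_! ⟶ f_*` -/
noncomputable def shriekShι [LocallyOfFiniteType j] : shriekSh j ⟶ EtCoh.push j where
  app F := ObjectProperty.homMk (EtShriek.lowerShriekPreι j F)
  naturality F G φ := by
    refine ObjectProperty.hom_ext _ ?_
    ext V x
    rfl

instance mono_shriekShι [LocallyOfFiniteType j] (F : EtCoh.Ab U) : Mono ((shriekShι j).app F) := by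
  have : ∀ V, Mono (((shriekShι j).app F).hom.app V) := fun V =>
    (AddCommGrpCat.mono_iff_injective _).2 fun a b h => Subtype.ext h
  have := NatTrans.mono_of_mono_app ((shriekShι j).app F).hom
  exact (sheafToPresheaf _ _).mono_of_mono_map this

variable [AlgebraicGeometry.Etale j] [IsSeparated j] [EtShriek.JCont j]

/-- `F ⟶ (f_! F)|_U` -/
noncomputable def extHom (F : EtCoh.Ab U) : F ⟶ (EtShriek.restrAlong j).obj ((shriekSh j).obj F) :=
  ObjectProperty.homMk
    { app := fun W => AddCommGrpCat.ofHom (AddMonoidHom.mk'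
        (fun s => (⟨extSec j F W.unop s, extSec_mem j F W.unop s⟩ :
          EtShriek.shriekSubgroup j F ((EtShriek.compEtale j).obj W.unop)))
        (fun a b => Subtype.ext (extSec_add j F W.unop a b)))
      naturality := fun W W' h => by
        ext s
        exact Subtype.ext (extSec_map j F h.unop s).symm }

/-- `j_! ⟶ f_!` -/
noncomputable def toShriek : EtShriek.extZero j ⟶ shriekSh j where
  app F := ((EtShriek.extZeroAdj j).homEquiv _ _).symm (extHom j F)
  naturality F G φ := by
    rw [← Adjunction.homEquiv_naturality_left_symm, ← Adjunction.homEquiv_naturality_right_symm]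
    refine congrArg _ (ObjectProperty.hom_ext _ ?_)
    ext W s
    exact Subtype.ext (extSec_app j φ W.unop s).symm

theorem toShriek_unit (F : EtCoh.Ab U) (W : U.Etale) (s : EtCoh.sect F W) :
    (((toShriek j).app F).hom.app (op ((EtShriek.compEtale j).obj W))
      (((EtShriek.extZeroAdj j).unit.app F).hom.app (op W) s)) =
      (⟨extSec j F W s, extSec_mem j F W s⟩ : EtShriek.shriekSubgroup j F ((EtShriek.compEtale j).obj W)) := by
  have h : ((EtShriek.extZeroAdj j).unit.app F ≫ (EtShriek.restrAlong j).map ((toShriek j).app F)) = extHom j F := by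
    refine ((EtShriek.extZeroAdj j).homEquiv_unit _ _ _).symm.trans ?_
    exact Equiv.apply_symm_apply _ _
  exact congr(($h).hom.app (op W) s)

variable {Ω : Type u} [Field Ω] [IsSepClosed Ω] {ξ : Spec (CommRingCat.of Ω) ⟶ X}

/-- the point `(v, z)` of the base change -/
noncomputable def pairPt (z : EtFound.PtsOver j ξ) (V : X.Etale) (v : (Scheme.pointSmallEtale ξ).fiber.obj V) :
    (Scheme.pointSmallEtale z.1).fiber.obj ((EtCoh.bc j).obj V) :=
  CategoryTheory.Over.homMk
    (pullback.lift (v.left : Spec (CommRingCat.of Ω) ⟶ V.left) z.1 ((CategoryTheory.Over.w v).trans z.2.symm))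
    (pullback.lift_snd _ _ _)

/-- `(f_* F)_ξ ⟶ F_z` -/
noncomputable def projStalk (z : EtFound.PtsOver j ξ) (F : EtCoh.Ab U) :
    (Scheme.pointSmallEtale ξ).presheafFiber.obj ((EtCoh.push j).obj F).obj ⟶
      (Scheme.pointSmallEtale z.1).presheafFiber.obj F.obj :=
  (Scheme.pointSmallEtale ξ).presheafFiberDesc
    (fun V v => (Scheme.pointSmallEtale z.1).toPresheafFiber ((EtCoh.bc j).obj V) (pairPt j z V v) F.obj)
    (fun {V V'} f v => by
      refine ((Scheme.pointSmallEtale z.1).toPresheafFiber_w ((EtCoh.bc j).map f) (pairPt j z V v) F.obj).trans ?_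
      refine congrArg (fun p => (Scheme.pointSmallEtale z.1).toPresheafFiber _ p F.obj) ?_
      refine CategoryTheory.Over.OverMorphism.ext ?_
      apply pullback.hom_ext
      · show (pullback.lift _ _ _ ≫ ((EtCoh.bc j).map f).left) ≫ pullback.fst _ _ = pullback.lift _ _ _ ≫ pullback.fst _ _
        erw [Category.assoc, show ((EtCoh.bc j).map f).left ≫ pullback.fst V'.hom j =
          pullback.fst V.hom j ≫ f.left from pullback.lift_fst _ _ _, ← Category.assoc, pullback.lift_fst,
          pullback.lift_fst]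
        rfl
      · show (pullback.lift _ _ _ ≫ ((EtCoh.bc j).map f).left) ≫ pullback.snd _ _ = pullback.lift _ _ _ ≫ pullback.snd _ _
        erw [Category.assoc, show ((EtCoh.bc j).map f).left ≫ pullback.snd V'.hom j =
          pullback.snd V.hom j from pullback.lift_snd _ _ _, pullback.lift_snd, pullback.lift_snd])

theorem projStalk_germ (z : EtFound.PtsOver j ξ) (F : EtCoh.Ab U) (V : X.Etale)
    (v : (Scheme.pointSmallEtale ξ).fiber.obj V) (t : EtCoh.sect F ((EtCoh.bc j).obj V)) :
    projStalk j z F ((Scheme.pointSmallEtale ξ).toPresheafFiber V v ((EtCoh.push j).obj F).obj t) =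
      (Scheme.pointSmallEtale z.1).toPresheafFiber ((EtCoh.bc j).obj V) (pairPt j z V v) F.obj t :=
  by
  unfold projStalk
  exact ConcreteCategory.congr_hom ((Scheme.pointSmallEtale ξ).toPresheafFiber_presheafFiberDesc
    (P := ((EtCoh.push j).obj F).obj) _ _ V v) t

/-- germs of extended sections -/
theorem germ_extSec_self (z : EtFound.PtsOver j ξ) (F : EtCoh.Ab U) (W : U.Etale)
    (w : (Scheme.pointSmallEtale z.1).fiber.obj W) (s : EtCoh.sect F W) :
    (Scheme.pointSmallEtale z.1).toPresheafFiber ((EtCoh.bc j).obj ((EtShriek.compEtale j).obj W))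
        (pairPt j z _ (EtFound.extLiftPt z W w)) F.obj (extSec j F W s) =
      (Scheme.pointSmallEtale z.1).toPresheafFiber W w F.obj s := by
  have e : pairPt j z _ (EtFound.extLiftPt z W w) = (Scheme.pointSmallEtale z.1).fiber.map (graph j W) w := by
    refine CategoryTheory.Over.OverMorphism.ext ?_
    apply pullback.hom_ext
    · show pullback.lift _ _ _ ≫ _ = ((w.left : Spec (CommRingCat.of Ω) ⟶ W.left) ≫ (graph j W).left) ≫ EtShriek.prV j _
      rw [Category.assoc, graph_fst]
      exact (pullback.lift_fst _ _ _).trans (Category.comp_id _).symm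
    · show pullback.lift _ _ _ ≫ _ = ((w.left : Spec (CommRingCat.of Ω) ⟶ W.left) ≫ (graph j W).left) ≫
        ((EtCoh.bc j).obj ((EtShriek.compEtale j).obj W)).hom
      rw [Category.assoc, graph_snd]
      exact (pullback.lift_snd _ _ _).trans (CategoryTheory.Over.w w).symm
  rw [e, ← (Scheme.pointSmallEtale z.1).toPresheafFiber_w_apply, (isExt_extSec j F W s).1]

theorem germ_extSec_other (z z' : EtFound.PtsOver j ξ) (hne : z' ≠ z) (F : EtCoh.Ab U) (W : U.Etale)
    (w : (Scheme.pointSmallEtale z.1).fiber.obj W) (s : EtCoh.sect F W) :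
    (Scheme.pointSmallEtale z'.1).toPresheafFiber ((EtCoh.bc j).obj ((EtShriek.compEtale j).obj W))
        (pairPt j z' _ (EtFound.extLiftPt z W w)) F.obj (extSec j F W s) = 0 := by
  by_contra h0
  have h1 := (EtFound.mem_germSupp_iff _ _).2 h0
  rw [← sectSupp_eq_germSupp] at h1
  obtain ⟨q, hq⟩ := (isExt_extSec j F W s).2 h1
  let p : Spec (CommRingCat.of Ω) ⟶ ((EtCoh.bc j).obj ((EtShriek.compEtale j).obj W)).left :=
    (pairPt j z' _ (EtFound.extLiftPt z W w)).left
  have hsub : Set.range p.base ⊆ Set.range (graph j W).left.base := by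
    rintro _ ⟨t, rfl⟩
    obtain rfl : t = (default : Spec (CommRingCat.of Ω)) := Subsingleton.elim _ _
    exact ⟨q, hq⟩
  let l := IsOpenImmersion.lift (graph j W).left p hsub
  have hl : l ≫ (graph j W).left = p := IsOpenImmersion.lift_fac _ _ _
  have hw : l = (w.left : Spec (CommRingCat.of Ω) ⟶ W.left) := by
    have := congrArg (· ≫ EtShriek.prV j ((EtShriek.compEtale j).obj W)) hl
    simp only [Category.assoc, graph_fst] at this
    exact (Category.comp_id l).symm.trans (this.trans (pullback.lift_fst _ _ _))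
  apply hne
  refine Subtype.ext ?_
  have := congrArg (· ≫ ((EtCoh.bc j).obj ((EtShriek.compEtale j).obj W)).hom) hl
  simp only [Category.assoc, graph_snd] at this
  exact (pullback.lift_snd _ _ _).symm.trans (this.symm.trans ((congrArg (· ≫ W.hom) hw).trans (CategoryTheory.Over.w w)))

/-- `(j_! F)_ξ ⟶ F_z` -/
noncomputable def compProj (z : EtFound.PtsOver j ξ) (F : EtCoh.Ab U) :
    (EtCoh.stalk ξ).obj ((EtShriek.extZero j).obj F) ⟶ (EtCoh.stalk z.1).obj F :=
  (EtCoh.stalk ξ).map ((toShriek j).app F ≫ (shriekShι j).app F) ≫ projStalk j z F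

theorem extZeroι_compProj [DecidableEq (EtFound.PtsOver j ξ)] (z z' : EtFound.PtsOver j ξ) (F : EtCoh.Ab U)
    (W : U.Etale) (w : (Scheme.pointSmallEtale z.1).fiber.obj W) (s : EtCoh.sect F W) :
    (compProj j z' F) (EtFound.extZeroι j ξ F z ((Scheme.pointSmallEtale z.1).toPresheafFiber W w F.obj s)) =
      (Scheme.pointSmallEtale z'.1).toPresheafFiber ((EtCoh.bc j).obj ((EtShriek.compEtale j).obj W))
        (pairPt j z' _ (EtFound.extLiftPt z W w)) F.obj (extSec j F W s) := by
  have h1 := ConcreteCategory.congr_hom (EtFound.extZeroι_germ j ξ F z W w) s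
  refine (congrArg (compProj j z' F) h1).trans ?_
  refine (congrArg (projStalk j z' F) ((Scheme.pointSmallEtale ξ).toPresheafFiber_naturality_apply
    ((toShriek j).app F ≫ (shriekShι j).app F).hom _ (EtFound.extLiftPt z W w) _)).trans ?_
  refine (projStalk_germ j z' F _ _ _).trans (congrArg _ ?_)
  exact congrArg Subtype.val (toShriek_unit j F W s)

theorem injective_stalk_toPush (F : EtCoh.Ab U) (ξ : Spec (CommRingCat.of Ω) ⟶ X) :
    Function.Injective ((EtCoh.stalk ξ).map ((toShriek j).app F ≫ (shriekShι j).app F)) := by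
  classical
  let P := EtFound.PtsOver j ξ
  let M : P → Type (u + 1) := fun z => (EtCoh.stalk z.1).obj F
  let c := EtFound.extZeroCofanIsColimit (A := AddCommGrpCat.{u + 1}) j ξ F
  let ψ : (EtCoh.stalk ξ).obj ((EtShriek.extZero j).obj F) ⟶ AddCommGrpCat.of (DirectSum P M) :=
    Cofan.IsColimit.desc c fun z => AddCommGrpCat.ofHom (DirectSum.of M z)
  let φ : DirectSum P M →+ (EtCoh.stalk ξ).obj ((EtShriek.extZero j).obj F) :=
    DirectSum.toAddMonoid fun z => (EtFound.extZeroι j ξ F z).hom
  have hψ : ∀ (z : P) (m : M z), ψ (EtFound.extZeroι j ξ F z m) = DirectSum.of M z m := fun z m =>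
    ConcreteCategory.congr_hom (Cofan.IsColimit.fac c _ z) m
  have hφψ : ψ ≫ AddCommGrpCat.ofHom φ = 𝟙 _ := by
    refine Cofan.IsColimit.hom_ext c _ _ fun z => ConcreteCategory.hom_ext _ _ fun m => ?_
    show φ (ψ (EtFound.extZeroι j ξ F z m)) = EtFound.extZeroι j ξ F z m
    rw [hψ]
    exact DirectSum.toAddMonoid_of (β := M) _ z m
  have hcomp : ∀ z' : P, compProj j z' F = ψ ≫ AddCommGrpCat.ofHom
      (DFinsupp.evalAddMonoidHom (β := M) z') := by
    intro z'
    refine Cofan.IsColimit.hom_ext c _ _ fun z => ?_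
    refine (Scheme.pointSmallEtale z.1).presheafFiber_hom_ext fun W w => ConcreteCategory.hom_ext _ _ fun s => ?_
    refine (extZeroι_compProj j z z' F W w s).trans ?_
    show _ = (ψ (EtFound.extZeroι j ξ F z ((Scheme.pointSmallEtale z.1).toPresheafFiber W w F.obj s))) z'
    rw [hψ]
    by_cases hzz : z' = z
    · subst hzz
      exact (germ_extSec_self j z' F W w s).trans (DirectSum.of_eq_same (β := M) z' _).symm
    · exact (germ_extSec_other j z z' hzz F W w s).trans (DirectSum.of_eq_of_ne (β := M) z z' _ hzz).symm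
  refine (injective_iff_map_eq_zero ((EtCoh.stalk ξ).map ((toShriek j).app F ≫ (shriekShι j).app F)).hom).2 fun x hx => ?_
  have h0 : ψ x = 0 := by
    refine DFinsupp.ext fun z' => ?_
    have h2 := ConcreteCategory.congr_hom (hcomp z') x
    refine h2.symm.trans ?_
    exact (congrArg (projStalk j z' F) hx).trans (map_zero _)
  have := ConcreteCategory.congr_hom hφψ x
  rw [show (ψ ≫ AddCommGrpCat.ofHom φ) x = φ (ψ x) from rfl, h0, map_zero] at this
  exact this.symm

theorem mono_toPush (F : EtCoh.Ab U) : Mono ((toShriek j).app F ≫ (shriekShι j).app F) :=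
  (EtFound.mono_iff_stalks _).2 fun Ω _ _ ξ => injective_stalk_toPush j F ξ

/-- finitely many geometric points of the support -/
theorem finite_lifts (F : EtCoh.Ab U) (V : X.Etale) (v : (Scheme.pointSmallEtale ξ).fiber.obj V)
    (t : EtShriek.shriekSubgroup j F V) :
    {z : EtFound.PtsOver j ξ | EtFound.ptOf (pairPt j z V v) ∈ EtShriek.sectSupp F _ t.1}.Finite := by
  obtain ⟨hC, hP⟩ := (mem_shriekSubgroup_iff j F V t.1).1 t.2
  let i := (Scheme.IdealSheafData.vanishingIdeal ⟨EtShriek.sectSupp F _ t.1, hC⟩).subschemeι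
  haveI : IsProper (i ≫ EtShriek.prV j V) := hP
  let v₀ : Spec (CommRingCat.of Ω) ⟶ V.left := v.left
  let π := pullback.snd (i ≫ EtShriek.prV j V) v₀
  let Wv := pullback (EtShriek.prV j V) v₀
  let c : pullback (i ≫ EtShriek.prV j V) v₀ ⟶ Wv :=
    pullback.lift (pullback.fst _ _ ≫ i) π (by rw [Category.assoc, pullback.condition])
  haveI : LocallyQuasiFinite (EtShriek.prV j V) := inferInstance
  haveI : LocallyQuasiFinite (i ≫ EtShriek.prV j V) := inferInstance
  have hfin : (Set.univ : Set ↥(pullback (i ≫ EtShriek.prV j V) v₀)).Finite := by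
    have e : (Set.univ : Set ↥(pullback (i ≫ EtShriek.prV j V) v₀)) =
        π.base ⁻¹' {(default : Spec (CommRingCat.of Ω))} :=
      (Set.eq_univ_of_forall (s := π.base ⁻¹' {(default : Spec (CommRingCat.of Ω))})
        (fun x => Set.mem_singleton_iff.2 (Subsingleton.elim _ _))).symm
    rw [e]
    exact π.finite_preimage_singleton _
  let pt : EtFound.PtsOver j ξ → Wv := fun z =>
    (pullback.lift (pairPt j z V v).left (𝟙 _) ((pullback.lift_fst _ _ _).trans (Category.id_comp _).symm) :
      Spec (CommRingCat.of Ω) ⟶ Wv).base default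
  refine Set.Finite.of_finite_image (f := pt) ((hfin.image c.base).subset ?_) ?_
  · rintro _ ⟨z, hz, rfl⟩
    obtain ⟨y, hy⟩ : EtFound.ptOf (pairPt j z V v) ∈ Set.range i := by rw [QCoh.range_vanishing]; exact hz
    let s : Spec (CommRingCat.of Ω) ⟶ Wv :=
      pullback.lift (pairPt j z V v).left (𝟙 _) ((pullback.lift_fst _ _ _).trans (Category.id_comp _).symm)
    have : pt z ∈ (pullback.fst (EtShriek.prV j V) v₀).base ⁻¹' Set.range i := by
      refine ⟨y, hy.trans ?_⟩
      refine Eq.trans ?_ (Scheme.Hom.comp_apply s _ _)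
      exact congrArg (fun q : Spec (CommRingCat.of Ω) ⟶ _ => q.base default) (pullback.lift_fst _ _ _).symm
    rw [← Scheme.Pullback.range_fst] at this
    obtain ⟨q, hq⟩ := this
    let a := pullback.fst (pullback.fst (EtShriek.prV j V) v₀) i
    let b := pullback.snd (pullback.fst (EtShriek.prV j V) v₀) i
    let d := pullback.lift (f := i ≫ EtShriek.prV j V) (g := v₀) b (a ≫ pullback.snd (EtShriek.prV j V) v₀) (by
      rw [← Category.assoc, ← pullback.condition, Category.assoc, pullback.condition, Category.assoc])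
    have hd : d ≫ c = a := by
      apply pullback.hom_ext
      · rw [Category.assoc, pullback.lift_fst, ← Category.assoc, pullback.lift_fst]
        exact pullback.condition.symm
      · rw [Category.assoc, pullback.lift_snd, pullback.lift_snd]
    refine ⟨d.base q, Set.mem_univ _, ?_⟩
    rw [← Scheme.Hom.comp_apply, hd]
    exact hq
  · intro z _ z' _ he
    let s : EtFound.PtsOver j ξ → (Spec (CommRingCat.of Ω) ⟶ Wv) := fun z =>
      pullback.lift (pairPt j z V v).left (𝟙 _) ((pullback.lift_fst _ _ _).trans (Category.id_comp _).symm)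
    have hs : ∀ z, s z ≫ pullback.snd (EtShriek.prV j V) v₀ = 𝟙 _ := fun z => pullback.lift_snd _ _ _
    haveI : AlgebraicGeometry.Etale (s z ≫ pullback.snd (EtShriek.prV j V) v₀) := by rw [hs]; infer_instance
    haveI : AlgebraicGeometry.Etale (s z) :=
      MorphismProperty.of_postcomp @AlgebraicGeometry.Etale (W' := @AlgebraicGeometry.Etale) (s z)
        (pullback.snd (EtShriek.prV j V) v₀) inferInstance inferInstance
    haveI : Mono (s z) := mono_of_mono_fac (hs z)
    haveI : IsOpenImmersion (s z) := IsOpenImmersion.of_flat_of_mono _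
    have hsub : Set.range (s z').base ⊆ Set.range (s z).base := by
      rintro _ ⟨p, rfl⟩
      obtain rfl : p = (default : Spec (CommRingCat.of Ω)) := Subsingleton.elim _ _
      exact ⟨default, he⟩
    let l := IsOpenImmersion.lift (s z) (s z') hsub
    have hl : l ≫ s z = s z' := IsOpenImmersion.lift_fac _ _ _
    have h1 : l = 𝟙 _ := by
      have := congrArg (· ≫ pullback.snd (EtShriek.prV j V) v₀) hl
      simp only [Category.assoc, hs, Category.comp_id] at this
      exact this
    rw [h1, Category.id_comp] at hl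
    have h2 := congrArg (fun q => (q ≫ pullback.fst (EtShriek.prV j V) v₀) ≫ ((EtCoh.bc j).obj V).hom) hl
    refine Subtype.ext ?_
    simp only [s, pullback.lift_fst] at h2
    exact (pullback.lift_snd _ _ _).symm.trans (h2.trans (pullback.lift_snd _ _ _))

theorem germ_mem_range (F : EtCoh.Ab U) : ∀ (n : ℕ) (T : Finset (EtFound.PtsOver j ξ)), T.card = n →
    ∀ (V : X.Etale) (v : (Scheme.pointSmallEtale ξ).fiber.obj V) (t : EtShriek.shriekSubgroup j F V),
      (∀ z, EtFound.ptOf (pairPt j z V v) ∈ EtShriek.sectSupp F _ t.1 → z ∈ T) →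
      (Scheme.pointSmallEtale ξ).toPresheafFiber V v ((shriekSh j).obj F).obj t ∈
        ((EtCoh.stalk ξ).map ((toShriek j).app F)).hom.range := by
  classical
  intro n
  induction n with
  | zero =>
    intro T hT V v t ht
    obtain ⟨hC, hP⟩ := (mem_shriekSubgroup_iff j F V t.1).1 t.2
    let i := (Scheme.IdealSheafData.vanishingIdeal ⟨EtShriek.sectSupp F _ t.1, hC⟩).subschemeι
    haveI : IsProper (i ≫ EtShriek.prV j V) := hP
    have hv : EtFound.ptOf v ∉ Set.range (i ≫ EtShriek.prV j V).base := by
      rintro ⟨y, hy⟩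
      have hy' : i.base y ∈ EtShriek.sectSupp F _ t.1 := (QCoh.range_vanishing hC).le ⟨y, rfl⟩
      obtain ⟨l, h1, h2⟩ := Scheme.exists_fac_of_etale_of_isSepClosed (EtShriek.prV j V)
        (v.left : Spec (CommRingCat.of Ω) ⟶ V.left) (i.base y) ((Scheme.Hom.comp_apply _ _ _).symm.trans hy)
      have hz : (l ≫ ((EtCoh.bc j).obj V).hom) ≫ j = ξ := by
        refine (Category.assoc _ _ _).trans ?_
        have : ((EtCoh.bc j).obj V).hom ≫ j = EtShriek.prV j V ≫ V.hom := pullback.condition.symm
        rw [this, ← Category.assoc, h1]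
        exact CategoryTheory.Over.w v
      have hp : (pairPt j ⟨_, hz⟩ V v).left = l := by
        apply pullback.hom_ext
        · exact (pullback.lift_fst _ _ _).trans h1.symm
        · exact pullback.lift_snd _ _ _
      have := ht ⟨_, hz⟩ (Set.mem_of_eq_of_mem ((congrArg (fun q : Spec (CommRingCat.of Ω) ⟶ _ => q.base default) hp).trans h2) hy')
      rw [Finset.card_eq_zero.1 hT] at this
      exact Finset.notMem_empty _ this
    let O : V.left.Opens := ⟨(Set.range (i ≫ EtShriek.prV j V).base)ᶜ,
      ((i ≫ EtShriek.prV j V).isClosedMap.isClosed_range).isOpen_compl⟩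
    obtain ⟨v', hv', -⟩ := EtFound.exists_lift_point (EtFound.restrictEtaleHom V O) v ⟨EtFound.ptOf v, hv⟩ rfl
    have h0 : ((shriekSh j).obj F).obj.map (EtFound.restrictEtaleHom V O).op t = 0 := by
      refine Subtype.ext (eq_zero_of_sectSupp_empty ?_)
      show EtShriek.sectSupp F _ (F.obj.map ((EtCoh.bc j).map (EtFound.restrictEtaleHom V O)).op t.1) = ∅
      rw [sectSupp_map]
      refine Set.eq_empty_iff_forall_notMem.2 fun x hx => ?_
      have hmem : O.ι.base ((EtShriek.prV j (EtFound.restrictEtale V O)).base x) ∈ O :=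
        ((EtShriek.prV j (EtFound.restrictEtale V O)).base x).2
      apply hmem
      obtain ⟨y, hy⟩ := (QCoh.range_vanishing hC).ge hx
      refine ⟨y, (Scheme.Hom.comp_apply _ _ _).trans ((congrArg _ hy).trans ?_)⟩
      refine (Scheme.Hom.comp_apply _ _ _).symm.trans (Eq.trans ?_ (Scheme.Hom.comp_apply _ _ _))
      exact congrArg (fun q : ((EtCoh.bc j).obj (EtFound.restrictEtale V O)).left ⟶ V.left => q.base x)
        (pullback.lift_fst _ _ _)
    rw [← hv', ← (Scheme.pointSmallEtale ξ).toPresheafFiber_w_apply, h0, map_zero]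
    exact zero_mem _
  | succ n ih =>
    intro T hT V v t ht
    obtain ⟨z, hzT⟩ := Finset.card_pos.1 (by omega : 0 < T.card)
    let W := (EtCoh.bc j).obj V
    let p := pairPt j z V v
    let π : (EtShriek.compEtale j).obj W ⟶ V :=
      MorphismProperty.Over.homMk (EtShriek.prV j V) pullback.condition
    let v' := EtFound.extLiftPt z W p
    have hv' : (Scheme.pointSmallEtale ξ).fiber.map π v' = v :=
      CategoryTheory.Over.OverMorphism.ext (pullback.lift_fst _ _ _)
    let t₁ : EtShriek.shriekSubgroup j F ((EtShriek.compEtale j).obj W) :=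
      ⟨extSec j F W t.1, extSec_mem j F W t.1⟩
    let t₀ : EtShriek.shriekSubgroup j F ((EtShriek.compEtale j).obj W) :=
      ((shriekSh j).obj F).obj.map π.op t
    have h1 : (Scheme.pointSmallEtale ξ).toPresheafFiber _ v' ((shriekSh j).obj F).obj t₁ ∈
        ((EtCoh.stalk ξ).map ((toShriek j).app F)).hom.range := by
      refine ⟨(Scheme.pointSmallEtale ξ).toPresheafFiber _ v' ((EtShriek.extZero j).obj F).obj
        (((EtShriek.extZeroAdj j).unit.app F).hom.app (op W) t.1), ?_⟩
      refine ((Scheme.pointSmallEtale ξ).toPresheafFiber_naturality_apply ((toShriek j).app F).hom _ v' _).trans ?_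
      exact congrArg _ (toShriek_unit j F W t.1)
    have hg : ∀ z' : EtFound.PtsOver j ξ,
        (Scheme.pointSmallEtale z'.1).toPresheafFiber _ (pairPt j z' _ v') F.obj t₀.1 =
          (Scheme.pointSmallEtale z'.1).toPresheafFiber _ (pairPt j z' V v) F.obj t.1 := by
      intro z'
      show (Scheme.pointSmallEtale z'.1).toPresheafFiber _ (pairPt j z' _ v') F.obj
        (F.obj.map ((EtCoh.bc j).map π).op t.1) = _
      rw [(Scheme.pointSmallEtale z'.1).toPresheafFiber_w_apply]
      refine congrArg (fun q => (Scheme.pointSmallEtale z'.1).toPresheafFiber _ q F.obj t.1) ?_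
      refine CategoryTheory.Over.OverMorphism.ext ?_
      apply pullback.hom_ext
      · show (pullback.lift _ _ _ ≫ ((EtCoh.bc j).map π).left) ≫ pullback.fst _ _ = pullback.lift _ _ _ ≫ pullback.fst _ _
        erw [Category.assoc, show ((EtCoh.bc j).map π).left ≫ pullback.fst V.hom j =
          pullback.fst ((EtShriek.compEtale j).obj W).hom j ≫ π.left from pullback.lift_fst _ _ _, ← Category.assoc,
          pullback.lift_fst, pullback.lift_fst]
        exact (pullback.lift_fst _ _ _).symm
      · show (pullback.lift _ _ _ ≫ ((EtCoh.bc j).map π).left) ≫ pullback.snd _ _ = pullback.lift _ _ _ ≫ pullback.snd _ _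
        erw [Category.assoc, show ((EtCoh.bc j).map π).left ≫ pullback.snd V.hom j =
          pullback.snd ((EtShriek.compEtale j).obj W).hom j from pullback.lift_snd _ _ _, pullback.lift_snd, pullback.lift_snd]
    have h2 := ih (T.erase z) (by rw [Finset.card_erase_of_mem hzT]; omega) _ v' (t₀ - t₁) fun z' hz' => by
      rw [sectSupp_eq_germSupp] at hz'
      have hne := (EtFound.mem_germSupp_iff _ _).1 hz'
      have e : (t₀ - t₁).1 = t₀.1 - t₁.1 := rfl
      rw [e, map_sub, hg] at hne
      have hzz : z' ≠ z := by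
        rintro rfl
        apply hne
        show _ - (Scheme.pointSmallEtale z'.1).toPresheafFiber _ (pairPt j z' _ v') F.obj (extSec j F W t.1) = 0
        rw [germ_extSec_self, sub_self]
      refine Finset.mem_erase.2 ⟨hzz, ht z' ?_⟩
      rw [sectSupp_eq_germSupp]
      refine (EtFound.mem_germSupp_iff _ _).2 fun h0 => hne ?_
      show _ - (Scheme.pointSmallEtale z'.1).toPresheafFiber _ (pairPt j z' _ v') F.obj (extSec j F W t.1) = 0
      rw [germ_extSec_other j z z' hzz, h0, sub_zero]
    rw [map_sub] at h2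
    have h3 := add_mem h2 h1
    rw [sub_add_cancel] at h3
    rw [show t₀ = ((shriekSh j).obj F).obj.map π.op t from rfl,
      (Scheme.pointSmallEtale ξ).toPresheafFiber_w_apply, hv'] at h3
    exact h3

theorem isIso_toShriek_app (F : EtCoh.Ab U) : IsIso ((toShriek j).app F) := by
  have := mono_toPush j F
  have : Mono ((toShriek j).app F) := mono_of_mono _ ((shriekShι j).app F)
  have : Epi ((toShriek j).app F) := (EtFound.epi_iff_stalks _).2 fun Ω _ _ ξ y => by
    obtain ⟨V, v, t, rfl⟩ := (Scheme.pointSmallEtale ξ).toPresheafFiber_jointly_surjective y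
    exact germ_mem_range j F _ (finite_lifts j F V v t).toFinset rfl V v t
      fun z hz => (Set.Finite.mem_toFinset _).2 hz
  exact isIso_of_mono_of_epi _

theorem nonempty_extZero_iso_lowerShriek : Nonempty (EtShriek.extZero j ≅ EtShriek.lowerShriek j) := by
  have := isIso_toShriek_app j
  have : IsIso (toShriek j) := NatIso.isIso_of_isIso_app _
  exact ⟨asIso (toShriek j) ≪≫ shriekShIso j⟩

end ShriekLib
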