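import Groth.Agent.ShriekLib.Coprod
import Groth.Agent.EtFound.FiniteStalk
import Groth.Agent.MorLib.GeomLift

/-!
# Stalks of sections with proper support along locally quasi-finite separated morphisms
-/

universe u

open CategoryTheory CategoryTheory.Limits AlgebraicGeometry Opposite

namespace ShriekLib

set_option backward.isDefEq.respectTransparency false
set_option backward.isDefEq.respectTransparency.types false
set_option linter.unusedSectionVars false
set_option linter.style.haveILetI false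

open Groth.Agent

variable {X Y : Scheme.{u}} (f : X ⟶ Y) [IsSeparated f] [LocallyOfFiniteType f] [LocallyQuasiFinite f]
variable {Ω : Type u} [Field Ω] [IsAlgClosed Ω] {η : Spec (CommRingCat.of Ω) ⟶ Y}

/-- `(f_! F)_η ⟶ F_ξ` -/
noncomputable def lqfProj (z : EtFound.PtsOver f η) (F : EtCoh.Ab X) :
    (EtCoh.stalk η).obj ((shriekSh f).obj F) ⟶ (EtCoh.stalk z.1).obj F :=
  (EtCoh.stalk η).map ((shriekShι f).app F) ≫ (EtFound.pushStalkAt f z.2).app F

theorem lqfProj_germ (z : EtFound.PtsOver f η) (F : EtCoh.Ab X) (V : Y.Etale)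
    (v : (Scheme.pointSmallEtale η).fiber.obj V) (t : EtShriek.shriekSubgroup f F V) :
    lqfProj f z F ((Scheme.pointSmallEtale η).toPresheafFiber V v ((shriekSh f).obj F).obj t) =
      (Scheme.pointSmallEtale z.1).toPresheafFiber ((EtCoh.bc f).obj V) (EtFound.liftPt f z.2 v) F.obj t.1 := by
  have h1 : (Scheme.pointSmallEtale η).presheafFiber.map ((shriekShι f).app F).hom
      ((Scheme.pointSmallEtale η).toPresheafFiber V v ((shriekSh f).obj F).obj t) =
      (Scheme.pointSmallEtale η).toPresheafFiber V v ((EtCoh.push f).obj F).obj t.1 :=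
    (Scheme.pointSmallEtale η).toPresheafFiber_naturality_apply ((shriekShι f).app F).hom V v t
  have h2 := EtFound.pushStalkAt_germ_apply (A := AddCommGrpCat.{u + 1}) f z.2 F v t.1
  refine Eq.trans ?_ h2
  show ((EtFound.pushStalkAt f z.2).app F) ((Scheme.pointSmallEtale η).presheafFiber.map ((shriekShι f).app F).hom
    ((Scheme.pointSmallEtale η).toPresheafFiber V v ((shriekSh f).obj F).obj t)) = _
  rw [h1]

theorem lqfProj_naturality (z : EtFound.PtsOver f η) {F G : EtCoh.Ab X} (α : F ⟶ G) :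
    (EtCoh.stalk η).map ((shriekSh f).map α) ≫ lqfProj f z G = lqfProj f z F ≫ (EtCoh.stalk z.1).map α := by
  simp only [lqfProj, Category.assoc]
  rw [← Category.assoc, ← Functor.map_comp, (shriekShι f).naturality α, Functor.map_comp, Category.assoc]
  exact congrArg (_ ≫ ·) ((EtFound.pushStalkAt f z.2).naturality α)

/-- points over `v` in the support of a section with proper support come from finitely many lifts -/
theorem exists_lift_supp (F : EtCoh.Ab X) (V : Y.Etale) (v : (Scheme.pointSmallEtale η).fiber.obj V)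
    (t : EtShriek.shriekSubgroup f F V) (hC : IsClosed (EtShriek.sectSupp F _ t.1))
    (y : (Scheme.IdealSheafData.vanishingIdeal ⟨_, hC⟩).subscheme)
    (hy : ((Scheme.IdealSheafData.vanishingIdeal ⟨_, hC⟩).subschemeι ≫ EtShriek.prV f V).base y = EtFound.ptOf v) :
    ∃ z : EtFound.PtsOver f η, EtFound.ptOf (EtFound.liftPt f z.2 v) ∈ EtShriek.sectSupp F _ t.1 := by
  obtain ⟨hC', hP⟩ := (mem_shriekSubgroup_iff f F V t.1).1 t.2
  let i := (Scheme.IdealSheafData.vanishingIdeal ⟨EtShriek.sectSupp F _ t.1, hC⟩).subschemeι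
  haveI : IsProper (i ≫ EtShriek.prV f V) := hP
  haveI : LocallyQuasiFinite (EtShriek.prV f V) := inferInstanceAs (LocallyQuasiFinite (pullback.fst V.hom f))
  haveI : IsFinite (i ≫ EtShriek.prV f V) := IsFinite.of_isProper_of_locallyQuasiFinite _
  obtain ⟨l, hl, hly⟩ := EtFound.exists_fac_of_integral (i ≫ EtShriek.prV f V)
    (v.left : Spec (CommRingCat.of Ω) ⟶ V.left) y hy
  have hl' : (l ≫ i) ≫ EtShriek.prV f V = v.left := (Category.assoc _ _ _).trans hl
  have hz : ((l ≫ i) ≫ pullback.snd V.hom f) ≫ f = η := by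
    rw [Category.assoc, ← pullback.condition, ← Category.assoc, hl']
    exact CategoryTheory.Over.w v
  refine ⟨⟨_, hz⟩, ?_⟩
  have hp : (EtFound.liftPt f hz v).left = l ≫ i := by
    apply pullback.hom_ext
    · exact (pullback.lift_fst _ _ _).trans hl'.symm
    · exact pullback.lift_snd _ _ _
  refine (QCoh.range_vanishing hC).le ⟨l.base default, ?_⟩
  refine (Scheme.Hom.comp_apply l i _).symm.trans ?_
  exact congrArg (fun q : Spec (CommRingCat.of Ω) ⟶ _ => q.base default) hp.symm

theorem injective_lqfProj (F : EtCoh.Ab X) (x : (EtCoh.stalk η).obj ((shriekSh f).obj F))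
    (h : ∀ z : EtFound.PtsOver f η, lqfProj f z F x = 0) : x = 0 := by
  obtain ⟨V, v, t, rfl⟩ := (Scheme.pointSmallEtale η).toPresheafFiber_jointly_surjective x
  obtain ⟨hC, hP⟩ := (mem_shriekSubgroup_iff f F V t.1).1 t.2
  let i := (Scheme.IdealSheafData.vanishingIdeal ⟨EtShriek.sectSupp F _ t.1, hC⟩).subschemeι
  haveI : IsProper (i ≫ EtShriek.prV f V) := hP
  have hv : EtFound.ptOf v ∉ Set.range (i ≫ EtShriek.prV f V).base := by
    rintro ⟨y, hy⟩
    obtain ⟨z, hz⟩ := exists_lift_supp f F V v t hC y hy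
    rw [sectSupp_eq_germSupp] at hz
    exact (EtFound.mem_germSupp_iff _ _).1 hz ((lqfProj_germ f z F V v t).symm.trans (h z))
  let O : V.left.Opens := ⟨(Set.range (i ≫ EtShriek.prV f V).base)ᶜ,
    ((i ≫ EtShriek.prV f V).isClosedMap.isClosed_range).isOpen_compl⟩
  obtain ⟨v', hv', -⟩ := EtFound.exists_lift_point (EtFound.restrictEtaleHom V O) v ⟨EtFound.ptOf v, hv⟩ rfl
  have h0 : ((shriekSh f).obj F).obj.map (EtFound.restrictEtaleHom V O).op t = 0 := by
    refine Subtype.ext (eq_zero_of_sectSupp_empty ?_)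
    show EtShriek.sectSupp F _ (F.obj.map ((EtCoh.bc f).map (EtFound.restrictEtaleHom V O)).op t.1) = ∅
    rw [sectSupp_map]
    refine Set.eq_empty_iff_forall_notMem.2 fun x hx => ?_
    have hmem : O.ι.base ((EtShriek.prV f (EtFound.restrictEtale V O)).base x) ∈ O :=
      ((EtShriek.prV f (EtFound.restrictEtale V O)).base x).2
    apply hmem
    obtain ⟨y, hy⟩ := (QCoh.range_vanishing hC).ge hx
    refine ⟨y, (Scheme.Hom.comp_apply _ _ _).trans ((congrArg _ hy).trans ?_)⟩
    refine (Scheme.Hom.comp_apply _ _ _).symm.trans (Eq.trans ?_ (Scheme.Hom.comp_apply _ _ _))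
    exact congrArg (fun q : ((EtCoh.bc f).obj (EtFound.restrictEtale V O)).left ⟶ V.left => q.base x)
      (pullback.lift_fst _ _ _)
  rw [← hv', ← (Scheme.pointSmallEtale η).toPresheafFiber_w_apply]
  exact (congrArg _ h0).trans (map_zero _)

theorem finite_lqfProj (F : EtCoh.Ab X) (x : (EtCoh.stalk η).obj ((shriekSh f).obj F)) :
    {z : EtFound.PtsOver f η | lqfProj f z F x ≠ 0}.Finite := by
  obtain ⟨V, v, t, rfl⟩ := (Scheme.pointSmallEtale η).toPresheafFiber_jointly_surjective x
  obtain ⟨hC, hP⟩ := (mem_shriekSubgroup_iff f F V t.1).1 t.2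
  let i := (Scheme.IdealSheafData.vanishingIdeal ⟨EtShriek.sectSupp F _ t.1, hC⟩).subschemeι
  haveI : IsProper (i ≫ EtShriek.prV f V) := hP
  haveI : LocallyQuasiFinite (EtShriek.prV f V) := inferInstanceAs (LocallyQuasiFinite (pullback.fst V.hom f))
  haveI : IsFinite (i ≫ EtShriek.prV f V) := IsFinite.of_isProper_of_locallyQuasiFinite _
  haveI := EtFound.finite_points (i ≫ EtShriek.prV f V) (v.left : Spec (CommRingCat.of Ω) ⟶ V.left)
  let T := {l : Spec (CommRingCat.of Ω) ⟶ (Scheme.IdealSheafData.vanishingIdeal ⟨_, hC⟩).subscheme //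
    l ≫ (i ≫ EtShriek.prV f V) = v.left}
  let S := {z : EtFound.PtsOver f η | lqfProj f z F
    ((Scheme.pointSmallEtale η).toPresheafFiber V v ((shriekSh f).obj F).obj t) ≠ 0}
  show S.Finite
  have H : ∀ z ∈ S, ∃ l : T, (l.1 ≫ i) = (EtFound.liftPt f z.2 v).left := by
    intro z hz
    have hz' : EtFound.ptOf (EtFound.liftPt f z.2 v) ∈ EtShriek.sectSupp F _ t.1 := by
      rw [sectSupp_eq_germSupp]
      exact (EtFound.mem_germSupp_iff _ _).2 fun h0 => hz ((lqfProj_germ f z F V v t).trans h0)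
    obtain ⟨y, hy⟩ := (QCoh.range_vanishing hC).ge hz'
    obtain ⟨l, hl, -⟩ := EtFound.exists_fac_of_integral i (EtFound.liftPt f z.2 v).left y hy
    exact ⟨⟨l, by rw [← Category.assoc, hl]; exact pullback.lift_fst _ _ _⟩, hl⟩
  choose l hl using H
  refine Set.finite_coe_iff.1 (Finite.of_injective (fun z : S => l z.1 z.2) fun z z' e => ?_)
  have := congrArg (fun q : T => (q.1 ≫ i) ≫ pullback.snd V.hom f) e
  simp only [hl] at this
  exact Subtype.ext (Subtype.ext ((pullback.lift_snd _ _ _).symm.trans (this.trans (pullback.lift_snd _ _ _))))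

theorem exists_single_lqfProj (F : EtCoh.Ab X) (z : EtFound.PtsOver f η) (m : (EtCoh.stalk z.1).obj F) :
    ∃ x, lqfProj f z F x = m ∧ ∀ z' : EtFound.PtsOver f η, z' ≠ z → lqfProj f z' F x = 0 := by
  classical
  obtain ⟨T, w₁, s₁, rfl⟩ := (Scheme.pointSmallEtale z.1).toPresheafFiber_jointly_surjective m
  obtain ⟨_, ⟨O₀, hO₀, rfl⟩, hw₀, -⟩ := T.left.isBasis_affineOpens.exists_subset_of_mem_open
    (Set.mem_univ (EtFound.ptOf w₁)) isOpen_univ
  obtain ⟨w, hw, -⟩ := EtFound.exists_lift_point (EtFound.restrictEtaleHom T O₀) w₁ ⟨_, hw₀⟩ rfl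
  let T' := EtFound.restrictEtale T O₀
  let s : EtCoh.sect F T' := F.obj.map (EtFound.restrictEtaleHom T O₀).op s₁
  suffices H : ∃ x, lqfProj f z F x = (Scheme.pointSmallEtale z.1).toPresheafFiber T' w F.obj s ∧
      ∀ z' : EtFound.PtsOver f η, z' ≠ z → lqfProj f z' F x = 0 by
    obtain ⟨x, h1, h2⟩ := H
    refine ⟨x, h1.trans ?_, h2⟩
    exact ((Scheme.pointSmallEtale z.1).toPresheafFiber_w_apply _ w F.obj s₁).trans
      (congrArg (fun q => (Scheme.pointSmallEtale z.1).toPresheafFiber T q F.obj s₁) hw)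
  clear_value s
  haveI : AlgebraicGeometry.Etale T'.hom := T'.prop
  haveI : LocallyQuasiFinite (T'.hom ≫ f) := inferInstance
  haveI : IsAffine T'.left := hO₀
  let h : T'.left ⟶ Y := T'.hom ≫ f
  let γ : Spec (CommRingCat.of Ω) ⟶ T'.left := w.left
  have hγ : γ ≫ h = η := by
    show γ ≫ T'.hom ≫ f = η
    rw [← Category.assoc]
    exact (congrArg (· ≫ f) (CategoryTheory.Over.w w)).trans z.2
  have hqf : h.QuasiFiniteAt (γ (IsLocalRing.closedPoint Ω)) := by
    have : γ (IsLocalRing.closedPoint Ω) ∈ h.quasiFiniteLocus := by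
      rw [(Scheme.Hom.quasiFiniteLocus_eq_top_iff h).2 inferInstance]; trivial
    exact this
  obtain ⟨V', g, v', W, δ, hg, hv, hfin, hδ1, hδ2, huniq⟩ := MorLib.GL.exists_nbhd h γ hqf
  haveI := hg
  let V : Y.Etale := Scheme.Etale.mk g
  let P : Scheme.{u} := W
  let q : P ⟶ pullback g f :=
    pullback.lift (W.ι ≫ pullback.snd h g) (W.ι ≫ pullback.fst h g ≫ T'.hom) (by
      simp only [Category.assoc]
      rw [← pullback.condition])
  have hq1 : q ≫ pullback.fst g f = W.ι ≫ pullback.snd h g := pullback.lift_fst _ _ _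
  have hq2 : q ≫ pullback.snd g f = W.ι ≫ pullback.fst h g ≫ T'.hom := pullback.lift_snd _ _ _
  haveI : AlgebraicGeometry.Etale (q ≫ pullback.snd g f) := by rw [hq2]; infer_instance
  haveI : AlgebraicGeometry.Etale q :=
    MorphismProperty.of_postcomp @AlgebraicGeometry.Etale (W' := @AlgebraicGeometry.Etale) q
      (pullback.snd g f) inferInstance inferInstance
  haveI : IsFinite (q ≫ pullback.fst g f) := by rw [hq1]; exact hfin
  haveI : IsFinite q := IsFinite.of_comp q (pullback.fst g f)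
  let dq := pullback.diagonal q
  haveI : IsOpenImmersion dq := inferInstance
  let R : Set ↥(pullback q q) := (Set.range dq.base)ᶜ
  let pR : pullback q q ⟶ V' := pullback.fst q q ≫ q ≫ pullback.fst g f
  haveI : IsFinite pR := inferInstanceAs (IsFinite (pullback.fst q q ≫ q ≫ pullback.fst g f))
  let K : Set ↥V' := pR.base '' R
  have hK : IsClosed K := pR.isClosedMap _ dq.isOpenEmbedding.isOpen_range.isClosed_compl
  have hvK : v'.base default ∉ K := by
    rintro ⟨r, hr, hrv⟩
    obtain ⟨l, hl, hlr⟩ := EtFound.exists_fac_of_integral pR v' r hrv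
    have h1 : l ≫ pullback.fst q q = δ := huniq _ (by
      rw [← hq1, Category.assoc]
      exact hl)
    have h2 : l ≫ pullback.snd q q = δ := huniq _ (by
      rw [← hq1, Category.assoc, ← Category.assoc (pullback.snd q q), ← pullback.condition, Category.assoc]
      exact hl)
    apply hr
    refine ⟨δ.base default, ?_⟩
    rw [← Scheme.Hom.comp_apply, ← hlr]
    refine congrArg (fun k : Spec (CommRingCat.of Ω) ⟶ pullback q q => k.base default) ?_
    apply pullback.hom_ext
    · rw [Category.assoc, pullback.diagonal_fst, Category.comp_id, h1]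
    · rw [Category.assoc, pullback.diagonal_snd, Category.comp_id, h2]
  let O : V'.Opens := ⟨Kᶜ, hK.isOpen_compl⟩
  let V₁ := EtFound.restrictEtale V O
  let φ : V₁ ⟶ V := EtFound.restrictEtaleHom V O
  let vV : (Scheme.pointSmallEtale η).fiber.obj V := CategoryTheory.Over.homMk v' (hv.trans hγ)
  obtain ⟨v₁, hv₁, -⟩ := EtFound.exists_lift_point φ vV ⟨v'.base default, hvK⟩ rfl
  have hv₁' : (v₁.left : Spec (CommRingCat.of Ω) ⟶ O.toScheme) ≫ O.ι = v' :=
    congrArg (fun k => k.left) hv₁
  let b : ((EtCoh.bc f).obj V₁).left ⟶ pullback g f := ((EtCoh.bc f).map φ).left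
  have hb1 : b ≫ pullback.fst g f = EtShriek.prV f V₁ ≫ O.ι := (isPullback_prV f φ).w
  have hb2 : b ≫ pullback.snd g f = ((EtCoh.bc f).obj V₁).hom := pullback.lift_snd _ _ _
  let q₁ : pullback q b ⟶ ((EtCoh.bc f).obj V₁).left := pullback.snd q b
  haveI : IsFinite q₁ := inferInstanceAs (IsFinite (pullback.snd q b))
  haveI : AlgebraicGeometry.Etale q₁ := inferInstanceAs (AlgebraicGeometry.Etale (pullback.snd q b))
  haveI : Mono q₁ := by
    refine ⟨fun {A} a a' e => ?_⟩
    apply pullback.hom_ext _ e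
    let pr : A ⟶ pullback q q := pullback.lift (a ≫ pullback.fst q b) (a' ≫ pullback.fst q b) (by
      rw [Category.assoc, Category.assoc, pullback.condition, ← Category.assoc, ← Category.assoc]
      exact congrArg (· ≫ b) e)
    have hsub : Set.range pr.base ⊆ Set.range dq.base := by
      rintro _ ⟨x, rfl⟩
      by_contra hx
      have hmem : pR.base (pr.base x) ∈ K := ⟨_, hx, rfl⟩
      have e' : pr ≫ pR = ((a ≫ q₁) ≫ EtShriek.prV f V₁) ≫ O.ι := by
        show pullback.lift _ _ _ ≫ pullback.fst q q ≫ q ≫ pullback.fst g f = _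
        rw [pullback.lift_fst_assoc]
        simp only [q₁, Category.assoc]
        rw [pullback.condition_assoc]
        exact congrArg (fun k => a ≫ pullback.snd q b ≫ k) hb1
      rw [← Scheme.Hom.comp_apply, e', Scheme.Hom.comp_apply] at hmem
      exact (((a ≫ q₁) ≫ EtShriek.prV f V₁).base x).2 hmem
    let k := IsOpenImmersion.lift dq pr hsub
    have hk : k ≫ dq = pr := IsOpenImmersion.lift_fac _ _ _
    have e1 := congrArg (· ≫ pullback.fst q q) hk
    have e2 := congrArg (· ≫ pullback.snd q q) hk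
    simp only [pr, dq, Category.assoc, pullback.diagonal_fst, pullback.diagonal_snd, Category.comp_id,
      pullback.lift_fst, pullback.lift_snd] at e1 e2
    exact e1.symm.trans e2
  haveI : IsOpenImmersion q₁ := IsOpenImmersion.of_flat_of_mono _
  haveI : IsClosedImmersion q₁ := IsClosedImmersion.of_isPreimmersion _ q₁.isClosedMap.isClosed_range
  let B := (EtCoh.bc f).obj V₁
  let Op : B.left.Opens := q₁.opensRange
  let Oc : B.left.Opens := ⟨(Set.range q₁.base)ᶜ, q₁.isClosedMap.isClosed_range.isOpen_compl⟩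
  haveI : AlgebraicGeometry.Etale B.hom := B.prop
  let P₁ : X.Etale := Scheme.Etale.mk (q₁ ≫ B.hom)
  let ι₁ : P₁ ⟶ B := MorphismProperty.Over.homMk q₁ rfl
  let r : P₁ ⟶ T' := MorphismProperty.Over.homMk (pullback.fst q b ≫ W.ι ≫ pullback.fst h g) (by
    show (pullback.fst q b ≫ W.ι ≫ pullback.fst h g) ≫ T'.hom = q₁ ≫ B.hom
    rw [Category.assoc, Category.assoc, ← hq2, pullback.condition_assoc, hb2])
  let Z : Bool → X.Etale := fun c => Bool.rec (EtFound.restrictEtale B Oc) P₁ c
  let e : ∀ c, Z c ⟶ B := fun c => Bool.rec (EtFound.restrictEtaleHom B Oc) ι₁ c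
  have hOc : ∀ x : (Z false).left, (e false).left.base x ∉ Set.range q₁.base := fun x => by
    have : (e false).left.base x ∈ Set.range Oc.ι.base := ⟨x, rfl⟩
    rw [Oc.range_ι] at this
    exact this
  have hmono : ∀ c, Mono (e c) := by
    rintro (_ | _)
    · refine ⟨fun a a' hh => MorphismProperty.Over.Hom.ext ((cancel_mono Oc.ι).1 ?_)⟩
      exact congrArg (fun k => k.left) hh
    · refine ⟨fun a a' hh => MorphismProperty.Over.Hom.ext ((cancel_mono q₁).1 ?_)⟩
      exact congrArg (fun k => k.left) hh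
  have hcov : ∀ x : B.left, ∃ (c : Bool) (y : (Z c).left), (e c).left.base y = x := by
    intro x
    by_cases hx : x ∈ Set.range q₁.base
    · obtain ⟨y, hy⟩ := hx
      exact ⟨true, y, hy⟩
    · obtain ⟨y, hy⟩ : x ∈ Set.range Oc.ι.base := by rw [Oc.range_ι]; exact hx
      exact ⟨false, y, hy⟩
  have hdisj : ∀ c c', c ≠ c' → ∀ a a', (e c).left.base a ≠ (e c').left.base a' := by
    rintro (_ | _) (_ | _) hne a a' hh
    · exact hne rfl
    · exact hOc a ⟨a', hh.symm⟩
    · exact hOc a' ⟨a, hh⟩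
    · exact hne rfl
  obtain ⟨u, hu⟩ := (@EtFound.bijective_sections_of_disjoint X F B Bool Z e hmono hcov hdisj).2
    (fun c => Bool.rec (motive := fun c => EtCoh.sect F (Z c)) 0 (F.obj.map r.op s) c)
  have hu₁ : F.obj.map ι₁.op u = F.obj.map r.op s := congrFun hu true
  have hu₀ : F.obj.map (e false).op u = 0 := congrFun hu false
  have hsupp : EtShriek.sectSupp F B u ⊆ Set.range q₁.base := by
    intro x hx
    by_contra hx'
    obtain ⟨y, hy⟩ : x ∈ Set.range Oc.ι.base := by rw [Oc.range_ι]; exact hx'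
    exact not_mem_sectSupp.2 ⟨Z false, e false, ⟨y, hy⟩, hu₀⟩ hx
  have hmem : u ∈ EtShriek.shriekSubgroup f F V₁ := by
    rw [mem_shriekSubgroup_iff]
    have sq : IsPullback (pullback.fst q b) (q₁ ≫ EtShriek.prV f V₁) (q ≫ pullback.fst g f) O.ι :=
      IsPullback.paste_vert (IsPullback.of_hasPullback q b) (isPullback_prV f φ)
    haveI : IsFinite (q₁ ≫ EtShriek.prV f V₁) := MorphismProperty.of_isPullback sq inferInstance
    exact QCoh.IsProperOver.subset ((QCoh.isProperOver_iff q₁).2 inferInstance) (isClosed_sectSupp _ _ _) hsupp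
  refine ⟨(Scheme.pointSmallEtale η).toPresheafFiber V₁ v₁ ((shriekSh f).obj F).obj ⟨u, hmem⟩, ?_, fun z' hne => ?_⟩
  · rw [lqfProj_germ]
    have hd : δ ≫ q = (EtFound.liftPt f z.2 v₁).left ≫ b := by
      apply pullback.hom_ext
      · rw [Category.assoc, Category.assoc, hq1, hb1, hδ2, ← hv₁']
        exact congrArg (· ≫ O.ι) (pullback.lift_fst _ _ _).symm
      · rw [Category.assoc, Category.assoc, hq2, hb2]
        refine Eq.trans ?_ (pullback.lift_snd _ _ _).symm
        rw [← Category.assoc W.ι, ← Category.assoc δ]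
        exact (congrArg (· ≫ T'.hom) hδ1).trans (CategoryTheory.Over.w w)
    let d : (Scheme.pointSmallEtale z.1).fiber.obj P₁ := CategoryTheory.Over.homMk (pullback.lift δ _ hd) (by
      show pullback.lift δ _ hd ≫ q₁ ≫ B.hom = z.1
      rw [← Category.assoc, show pullback.lift δ _ hd ≫ q₁ = _ from pullback.lift_snd _ _ _]
      exact CategoryTheory.Over.w (EtFound.liftPt f z.2 v₁))
    have e1 : (Scheme.pointSmallEtale z.1).fiber.map ι₁ d = EtFound.liftPt f z.2 v₁ :=
      CategoryTheory.Over.OverMorphism.ext (pullback.lift_snd _ _ _)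
    have e2 : (Scheme.pointSmallEtale z.1).fiber.map r d = w := by
      refine CategoryTheory.Over.OverMorphism.ext ?_
      show pullback.lift δ _ hd ≫ pullback.fst q b ≫ W.ι ≫ pullback.fst h g = γ
      rw [pullback.lift_fst_assoc]
      exact hδ1
    rw [← e1, ← (Scheme.pointSmallEtale z.1).toPresheafFiber_w_apply, hu₁,
      (Scheme.pointSmallEtale z.1).toPresheafFiber_w_apply, e2]
  · rw [lqfProj_germ]
    by_contra h0
    have h1 := (EtFound.mem_germSupp_iff _ _).2 h0
    rw [← sectSupp_eq_germSupp] at h1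
    let L := (EtFound.liftPt f z'.2 v₁).left
    have hsub : Set.range L.base ⊆ Set.range q₁.base := by
      rintro _ ⟨x, rfl⟩
      obtain rfl : x = (default : Spec (CommRingCat.of Ω)) := Subsingleton.elim (α := ↥(Spec (CommRingCat.of Ω))) _ _
      exact hsupp h1
    let k := IsOpenImmersion.lift q₁ L hsub
    have hk : k ≫ q₁ = L := IsOpenImmersion.lift_fac _ _ _
    have hkd : k ≫ pullback.fst q b = δ := huniq _ (by
      rw [← hq1, Category.assoc, pullback.condition_assoc, hb1, ← Category.assoc (pullback.snd q b), ← Category.assoc k,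
        ← Category.assoc k, show k ≫ pullback.snd q b = L from hk, ← hv₁']
      exact congrArg (· ≫ O.ι) (pullback.lift_fst _ _ _))
    apply hne
    refine Subtype.ext ?_
    calc z'.1 = L ≫ B.hom := (pullback.lift_snd _ _ _).symm
      _ = (k ≫ pullback.fst q b) ≫ q ≫ pullback.snd g f := by
          rw [Category.assoc, pullback.condition_assoc, hb2, ← hk, Category.assoc]
      _ = (δ ≫ W.ι ≫ pullback.fst h g) ≫ T'.hom := by rw [hkd, hq2]; simp only [Category.assoc]
      _ = z.1 := by rw [hδ1]; exact CategoryTheory.Over.w w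

open Classical in
/-- `(f_! F)_η` as the direct sum of the `F_ξ`, compatibly with the projections -/
theorem exists_directSum_equiv (F : EtCoh.Ab X) :
    ∃ e : (EtCoh.stalk η).obj ((shriekSh f).obj F) ≃+ DirectSum (EtFound.PtsOver f η) (fun z => (EtCoh.stalk z.1).obj F),
      ∀ (x : (EtCoh.stalk η).obj ((shriekSh f).obj F)) (z : EtFound.PtsOver f η), (e x) z = lqfProj f z F x := by
  let P := EtFound.PtsOver f η
  let M : P → Type (u + 1) := fun z => (EtCoh.stalk z.1).obj F
  let A : AddSubgroup (∀ z, M z) := (DFinsupp.coeFnAddMonoidHom : DirectSum P M →+ ∀ z, M z).range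
  let Ψ : (EtCoh.stalk η).obj ((shriekSh f).obj F) →+ ∀ z, M z := AddMonoidHom.pi fun z => (lqfProj f z F).hom
  have hsingle : ∀ z (m : M z), ∃ x, Ψ x = Pi.single z m := fun z m => by
    obtain ⟨x, h1, h2⟩ := exists_single_lqfProj f F z m
    refine ⟨x, funext fun z' => ?_⟩
    by_cases h : z' = z
    · subst h
      rw [Pi.single_eq_same]
      exact h1
    · rw [Pi.single_eq_of_ne h]
      exact h2 z' h
  choose σ hσ using hsingle
  have hΨinj : Function.Injective Ψ := (injective_iff_map_eq_zero Ψ).2 fun x hx =>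
    injective_lqfProj f F x fun z => congrFun hx z
  let Φ : DirectSum P M →+ (EtCoh.stalk η).obj ((shriekSh f).obj F) :=
    DirectSum.toAddMonoid fun z => AddMonoidHom.mk' (σ z) fun a b => hΨinj (by
      rw [map_add, hσ, hσ, hσ, Pi.single_add])
  have hΨΦ : Ψ.comp Φ = DFinsupp.coeFnAddMonoidHom := by
    refine DirectSum.addHom_ext fun z m => ?_
    show Ψ (Φ (DirectSum.of M z m)) = _
    rw [show Φ (DirectSum.of M z m) = σ z m from DirectSum.toAddMonoid_of (β := M) _ z m, hσ]
    exact (DFinsupp.single_eq_pi_single).symm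
  have hbij : Function.Bijective Φ := by
    refine ⟨fun a b hab => DFunLike.coe_injective ?_, fun x => ?_⟩
    · exact (DFunLike.congr_fun hΨΦ a).symm.trans ((congrArg Ψ hab).trans (DFunLike.congr_fun hΨΦ b))
    · refine ⟨DFinsupp.mk (finite_lqfProj f F x).toFinset fun z => lqfProj f z.1 F x, hΨinj ?_⟩
      refine (DFunLike.congr_fun hΨΦ _).trans (funext fun z => ?_)
      show (DFinsupp.mk (finite_lqfProj f F x).toFinset (fun z => lqfProj f z.1 F x) : DirectSum P M) z = lqfProj f z F x
      rw [DFinsupp.mk_apply]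
      split_ifs with h
      · rfl
      · by_contra hne
        exact h ((Set.Finite.mem_toFinset _).2 (Ne.symm hne))
  refine ⟨(AddEquiv.ofBijective Φ hbij).symm, fun x z => ?_⟩
  obtain ⟨d, rfl⟩ := hbij.2 x
  rw [show (AddEquiv.ofBijective Φ hbij).symm (Φ d) = d from (AddEquiv.ofBijective Φ hbij).symm_apply_apply d]
  exact (congrFun (DFunLike.congr_fun hΨΦ d) z).symm

open Classical in
/-- `(f_! F)_η ≅ ⊕ F_ξ` -/
theorem nonempty_stalk_iso (F : EtCoh.Ab X) :
    Nonempty ((EtCoh.stalk η).obj ((shriekSh f).obj F) ≅ ∐ fun z : EtFound.PtsOver f η => (EtCoh.stalk z.1).obj F) := by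
  let P := EtFound.PtsOver f η
  let M : P → Type (u + 1) := fun z => (EtCoh.stalk z.1).obj F
  obtain ⟨e₀, -⟩ := exists_directSum_equiv f (η := η) F
  let e : (EtCoh.stalk η).obj ((shriekSh f).obj F) ≅ AddCommGrpCat.of (DirectSum P M) := e₀.toAddCommGrpIso
  let c : Cofan fun z : P => (EtCoh.stalk z.1).obj F :=
    Cofan.mk (AddCommGrpCat.of (DirectSum P M)) fun z => AddCommGrpCat.ofHom (DirectSum.of M z)
  let hc : IsColimit c := Cofan.IsColimit.mk c
    (fun d => AddCommGrpCat.ofHom (DirectSum.toAddMonoid (β := M) fun z => (d.inj z).hom))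
    (fun d z => ConcreteCategory.hom_ext _ _ fun m => DirectSum.toAddMonoid_of (β := M) (fun z => (d.inj z).hom) z m)
    (fun d k hk => AddCommGrpCat.hom_ext (DirectSum.addHom_ext fun z m =>
      (ConcreteCategory.congr_hom (hk z) m).trans (DirectSum.toAddMonoid_of (β := M) (fun z => (d.inj z).hom) z m).symm))
  exact ⟨e ≪≫ hc.coconePointUniqueUpToIso (coproductIsCoproduct _)⟩

theorem epi_shriekSh_map {F G : EtCoh.Ab X} (α : F ⟶ G) [Epi α] : Epi ((shriekSh f).map α) := by
  classical
  refine (Sheaf.isLocallySurjective_iff_epi' _ _).1 ⟨fun {V} t => (EtFound.mem_topology_iff _).2 fun x => ?_⟩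
  obtain ⟨k, _, _, η, v, rfl⟩ := EtFound.exists_algClosed_point V x
  let y := (Scheme.pointSmallEtale η).toPresheafFiber V v ((shriekSh f).obj G).obj t
  have hsurj : ∀ z : EtFound.PtsOver f η, ∀ m, ∃ a, (EtCoh.stalk z.1).map α a = m := fun z m =>
    (EtFound.epi_iff_stalks α).1 inferInstance k z.1 m
  choose lift hlift using hsurj
  choose single h1 h2 using exists_single_lqfProj (η := η) f F
  let T := (finite_lqfProj f G y).toFinset
  let x₀ := ∑ z ∈ T, single z (lift z (lqfProj f z G y))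
  have hx₀ : (EtCoh.stalk η).map ((shriekSh f).map α) x₀ = y := by
    refine sub_eq_zero.1 (injective_lqfProj f G _ fun z => ?_)
    rw [map_sub, sub_eq_zero, ← ConcreteCategory.comp_apply, lqfProj_naturality, ConcreteCategory.comp_apply]
    by_cases hz : z ∈ T
    · rw [map_sum, Finset.sum_eq_single z (fun z' _ hne => h2 z' _ z (Ne.symm hne)) (fun h => absurd hz h), h1]
      exact hlift _ _
    · rw [map_sum, Finset.sum_eq_zero (fun z' hz' => h2 z' _ z (fun e : z = z' => hz (e ▸ hz'))), map_zero]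
      by_contra hne
      exact hz ((Set.Finite.mem_toFinset _).2 (Ne.symm hne))
  obtain ⟨V', v', s, hs⟩ := (Scheme.pointSmallEtale η).toPresheafFiber_jointly_surjective x₀
  rw [← hs] at hx₀
  have e : (Scheme.pointSmallEtale η).toPresheafFiber V' v' ((shriekSh f).obj G).obj
      (((shriekSh f).map α).hom.app (op V') s) =
      (Scheme.pointSmallEtale η).toPresheafFiber V v ((shriekSh f).obj G).obj t :=
    ((Scheme.pointSmallEtale η).toPresheafFiber_naturality_apply ((shriekSh f).map α).hom V' v' s).symm.trans hx₀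
  let E₁ := (Scheme.pointSmallEtale η).fiber.elementsMk V' v'
  let E₂ := (Scheme.pointSmallEtale η).fiber.elementsMk V v
  let a₀ := IsCofiltered.minToLeft E₁ E₂
  let b₀ := IsCofiltered.minToRight E₁ E₂
  let W₀ := (IsCofiltered.min E₁ E₂).1
  let w₀ : (Scheme.pointSmallEtale η).fiber.obj W₀ := (IsCofiltered.min E₁ E₂).2
  have ha₀ : (Scheme.pointSmallEtale η).fiber.map a₀.1 w₀ = v' := a₀.2
  have hb₀ : (Scheme.pointSmallEtale η).fiber.map b₀.1 w₀ = v := b₀.2
  rw [← ha₀, ← hb₀, ← (Scheme.pointSmallEtale η).toPresheafFiber_w_apply,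
    ← (Scheme.pointSmallEtale η).toPresheafFiber_w_apply] at e
  obtain ⟨W, c, w, hw, hab⟩ := ((Scheme.pointSmallEtale η).toPresheafFiber_eq_iff' _ _ _ _).1 e
  let a : W ⟶ V' := c ≫ a₀.1
  let b : W ⟶ V := c ≫ b₀.1
  have hb : (Scheme.pointSmallEtale η).fiber.map b w = v := by
    rw [← hb₀, ← hw]
    exact ConcreteCategory.congr_hom ((Scheme.pointSmallEtale η).fiber.map_comp c b₀.1) w
  replace hab : ((shriekSh f).obj G).obj.map a.op (((shriekSh f).map α).hom.app (op V') s) =
      ((shriekSh f).obj G).obj.map b.op t := by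
    rw [← map_map, ← map_map]
    exact hab
  refine ⟨W, b, EtFound.ptOf w, ⟨((shriekSh f).obj F).obj.map a.op s, ?_⟩, ?_⟩
  · refine Eq.trans ?_ hab
    exact NatTrans.naturality_apply ((shriekSh f).map α).hom a.op s
  · exact (EtFound.ptOf_map b w).symm.trans (congrArg EtFound.ptOf hb)

end ShriekLib
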