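import Groth.Agent.ShriekLib.LeftExact
import Groth.Agent.ShriekLib.Lqf
import Groth.Prelude.Def_EtZar
import Mathlib.CategoryTheory.Adjunction.AdjointFunctorTheorems

/-!
# `f_!` is exact and a left adjoint for separated locally quasi-finite `f`
-/

universe u

open CategoryTheory CategoryTheory.Limits AlgebraicGeometry Opposite

namespace ShriekLib

set_option backward.isDefEq.respectTransparency false
set_option backward.isDefEq.respectTransparency.types false
set_option linter.unusedSectionVars false
set_option linter.style.haveILetI false

open Groth.Agent

variable {X Y : Scheme.{u}} (f : X ⟶ Y) [IsSeparated f] [LocallyOfFiniteType f] [LocallyQuasiFinite f]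

theorem shriekSh_preservesFiniteColimits : PreservesFiniteColimits (shriekSh f) := by
  rw [Functor.preservesFiniteColimits_iff_forall_exact_map_and_epi]
  intro S hS
  haveI := hS.epi_g
  exact ⟨((Functor.preservesFiniteLimits_iff_forall_exact_map_and_mono _).1
    (shriekSh_preservesFiniteLimits f) S hS).1, epi_shriekSh_map f S.g⟩

theorem shriekSh_isLeftAdjoint : (shriekSh f).IsLeftAdjoint := by
  haveI := IsGrothendieckAbelian.hasColimits (EtCoh.Ab X)
  haveI := shriekSh_preservesFiniteColimits f
  haveI : ∀ (J : Type (u + 1)), PreservesColimitsOfShape (Discrete J) (shriekSh f) :=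
    shriekSh_preservesCoproducts_big f
  haveI : PreservesColimitsOfSize.{u + 1, u + 1} (shriekSh f) :=
    preservesColimits_of_preservesCoequalizers_and_coproducts _
  haveI : WellPowered.{u + 1} (EtCoh.Ab X) := inferInstance
  exact isLeftAdjoint_of_preservesColimits_of_isSeparating
    (P := ObjectProperty.singleton (separator (EtCoh.Ab X))) (isSeparator_separator _) _

end ShriekLib
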