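import Groth.Agent.ShriekLib.Etale

/-!
# Composition of direct images with proper support
-/

universe u

open CategoryTheory CategoryTheory.Limits AlgebraicGeometry Opposite

namespace ShriekLib

set_option backward.isDefEq.respectTransparency false
set_option backward.isDefEq.respectTransparency.types false
set_option linter.unusedSectionVars false
set_option linter.style.haveILetI false

open Groth.Agent

variable {X Y Z : Scheme.{u}} (f : X ⟶ Y) (g : Y ⟶ Z)

/-- a closed subset proper over `W` with image in a subset proper over `V` is proper over `V` -/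
theorem isProperOver_of_comp {A B S : Scheme.{u}} {p : A ⟶ B} {q : B ⟶ S} [LocallyOfFiniteType p]
    [LocallyOfFiniteType q] {C : Set A} (hC : ClSub.IsProperOver p C) {D : Set B}
    (hD : ClSub.IsProperOver q D) (h : ∀ x ∈ C, p.base x ∈ D) : ClSub.IsProperOver (p ≫ q) C := by
  obtain ⟨hCc, hCp⟩ := hC
  obtain ⟨hDc, hDp⟩ := hD
  let i := (Scheme.IdealSheafData.vanishingIdeal ⟨C, hCc⟩).subschemeι
  let k := (Scheme.IdealSheafData.vanishingIdeal ⟨D, hDc⟩).subschemeι
  haveI : IsProper (i ≫ p) := hCp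
  haveI : IsProper (k ≫ q) := hDp
  let j := pullback.fst (i ≫ p) k ≫ i
  haveI : IsProper (j ≫ p ≫ q) := by
    have e : j ≫ p ≫ q = pullback.snd (i ≫ p) k ≫ k ≫ q := by
      simp only [j, Category.assoc]
      rw [← Category.assoc i p q, pullback.condition_assoc]
    rw [e]
    infer_instance
  have hr : Set.range j = C := by
    rw [show ⇑j = ⇑i ∘ ⇑(pullback.fst (i ≫ p) k) from funext fun x => Scheme.Hom.comp_apply _ _ x, Set.range_comp,
      Scheme.Pullback.range_fst, QCoh.range_vanishing]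
    refine Set.Subset.antisymm ((Set.image_subset_range _ _).trans (QCoh.range_vanishing hCc).le) fun x hx => ?_
    obtain ⟨y, rfl⟩ := (QCoh.range_vanishing hCc).ge hx
    refine ⟨y, ?_, rfl⟩
    show (i ≫ p).base y ∈ D
    exact (Scheme.Hom.comp_apply i p y).symm ▸ h _ hx
  rw [← hr]
  exact (QCoh.isProperOver_iff j).2 inferInstance

/-- conversely -/
theorem isProperOver_comp_iff {A B S : Scheme.{u}} (p : A ⟶ B) (q : B ⟶ S) [LocallyOfFiniteType p]
    [LocallyOfFiniteType q] [IsSeparated q] (C : Set A) :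
    ClSub.IsProperOver (p ≫ q) C ↔ ClSub.IsProperOver p C ∧ ClSub.IsProperOver q (p.base '' C) := by
  refine ⟨fun h => ?_, fun h => isProperOver_of_comp h.1 h.2 fun x hx => ⟨x, hx, rfl⟩⟩
  have huc : ∀ {T : Scheme.{u}} (i : T ⟶ A), IsProper (i ≫ p ≫ q) → IsProper (i ≫ p) := fun i hi => by
    haveI : IsProper ((i ≫ p) ≫ q) := by rwa [Category.assoc]
    exact IsProper.of_comp (i ≫ p) q
  refine ⟨?_, ?_⟩
  · obtain ⟨hC, hP⟩ := h
    exact ⟨hC, huc _ hP⟩
  · exact QCoh.IsProperOver.image rfl h fun i _ hi => have := huc i hi; inferInstance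

section
variable [LocallyOfFiniteType f] [IsSeparated g] [LocallyOfFiniteType g]

theorem sectSupp_shriekSh (F : EtCoh.Ab X) (W : Y.Etale) (σ : EtShriek.shriekSubgroup f F W) :
    EtShriek.sectSupp ((shriekSh f).obj F) W σ =
      (EtShriek.prV f W).base '' EtShriek.sectSupp F ((EtCoh.bc f).obj W) σ.1 := by
  obtain ⟨hC, hP⟩ := (mem_shriekSubgroup_iff f F W σ.1).1 σ.2
  let i := (Scheme.IdealSheafData.vanishingIdeal ⟨EtShriek.sectSupp F _ σ.1, hC⟩).subschemeι
  haveI : IsProper (i ≫ EtShriek.prV f W) := hP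
  have hr : Set.range (i ≫ EtShriek.prV f W).base = (EtShriek.prV f W).base '' EtShriek.sectSupp F _ σ.1 := by
    rw [show ⇑(i ≫ EtShriek.prV f W) = ⇑(EtShriek.prV f W) ∘ ⇑i from funext fun x => Scheme.Hom.comp_apply _ _ x,
      Set.range_comp, QCoh.range_vanishing]
  refine Set.Subset.antisymm (fun x hx => ?_) ?_
  · by_contra hx'
    rw [← hr] at hx'
    let O : W.left.Opens := ⟨(Set.range (i ≫ EtShriek.prV f W).base)ᶜ,
      ((i ≫ EtShriek.prV f W).isClosedMap.isClosed_range).isOpen_compl⟩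
    obtain ⟨w, hw⟩ : x ∈ Set.range O.ι.base := by rw [O.range_ι]; exact hx'
    refine hx (EtFound.restrictEtale W O) (EtFound.restrictEtaleHom W O) ⟨w, hw⟩ (Subtype.ext (eq_zero_of_sectSupp_empty ?_))
    show EtShriek.sectSupp F _ (F.obj.map ((EtCoh.bc f).map (EtFound.restrictEtaleHom W O)).op σ.1) = ∅
    rw [sectSupp_map]
    refine Set.eq_empty_iff_forall_notMem.2 fun y hy => ?_
    have hmem : O.ι.base ((EtShriek.prV f (EtFound.restrictEtale W O)).base y) ∈ O :=
      ((EtShriek.prV f (EtFound.restrictEtale W O)).base y).2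
    apply hmem
    rw [hr]
    refine ⟨_, hy, ?_⟩
    refine (Scheme.Hom.comp_apply _ _ _).symm.trans (Eq.trans ?_ (Scheme.Hom.comp_apply _ _ _))
    exact congrArg (fun q : ((EtCoh.bc f).obj (EtFound.restrictEtale W O)).left ⟶ W.left => q.base y)
      (pullback.lift_fst _ _ _)
  · rintro _ ⟨c, hc, rfl⟩ W' h ⟨w, hw⟩ h0
    obtain ⟨z, hz, -⟩ := Scheme.Pullback.exists_preimage_pullback (f := EtShriek.prV f W) (g := h.left) c w hw.symm
    have sq := isPullback_prV f h
    have hy : ((EtCoh.bc f).map h).left.base (sq.isoPullback.inv.base z) = c := by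
      rw [← Scheme.Hom.comp_apply, IsPullback.isoPullback_inv_fst, hz]
    have h1 : EtShriek.sectSupp F _ (F.obj.map ((EtCoh.bc f).map h).op σ.1) = ∅ := by
      rw [show F.obj.map ((EtCoh.bc f).map h).op σ.1 = 0 from congrArg Subtype.val h0, sectSupp_zero]
    rw [sectSupp_map] at h1
    exact (Set.eq_empty_iff_forall_notMem.1 h1) _ (show ((EtCoh.bc f).map h).left.base _ ∈ _ from hy.symm ▸ hc)

end

/-- base change along a composite -/
noncomputable def bcIso (V : Z.Etale) :
    (EtCoh.bc f).obj ((EtCoh.bc g).obj V) ≅ (EtCoh.bc (f ≫ g)).obj V :=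
  MorphismProperty.Over.isoMk (pullbackLeftPullbackSndIso V.hom g f) (pullbackLeftPullbackSndIso_hom_snd _ _ _)

theorem bcIso_prV (V : Z.Etale) : (bcIso f g V).hom.left ≫ EtShriek.prV (f ≫ g) V =
    EtShriek.prV f ((EtCoh.bc g).obj V) ≫ EtShriek.prV g V :=
  pullbackLeftPullbackSndIso_hom_fst _ _ _

theorem bcIso_naturality {V V' : Z.Etale} (φ : V' ⟶ V) :
    (EtCoh.bc f).map ((EtCoh.bc g).map φ) ≫ (bcIso f g V).hom = (bcIso f g V').hom ≫ (EtCoh.bc (f ≫ g)).map φ := by
  refine MorphismProperty.Over.Hom.ext ?_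
  apply pullback.hom_ext
  · show (((EtCoh.bc f).map ((EtCoh.bc g).map φ)).left ≫ (bcIso f g V).hom.left) ≫ EtShriek.prV (f ≫ g) V =
      ((bcIso f g V').hom.left ≫ ((EtCoh.bc (f ≫ g)).map φ).left) ≫ EtShriek.prV (f ≫ g) V
    rw [Category.assoc, Category.assoc, bcIso_prV, (isPullback_prV (f ≫ g) φ).w, ← Category.assoc,
      (isPullback_prV f _).w, Category.assoc, (isPullback_prV g φ).w, ← Category.assoc, ← bcIso_prV, Category.assoc]
  · exact (MorphismProperty.Over.w ((EtCoh.bc f).map ((EtCoh.bc g).map φ) ≫ (bcIso f g V).hom)).trans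
      (MorphismProperty.Over.w ((bcIso f g V').hom ≫ (EtCoh.bc (f ≫ g)).map φ)).symm

variable [LocallyOfFiniteType f] [IsSeparated g] [LocallyOfFiniteType g]

theorem mem_comp_iff (F : EtCoh.Ab X) (V : Z.Etale) (s : EtCoh.sect F ((EtCoh.bc (f ≫ g)).obj V)) :
    s ∈ EtShriek.shriekSubgroup (f ≫ g) F V ↔
      ∃ h : F.obj.map (bcIso f g V).hom.op s ∈ EtShriek.shriekSubgroup f F ((EtCoh.bc g).obj V),
        (⟨_, h⟩ : EtShriek.shriekSubgroup f F ((EtCoh.bc g).obj V)) ∈
          EtShriek.shriekSubgroup g ((shriekSh f).obj F) V := by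
  have key : s ∈ EtShriek.shriekSubgroup (f ≫ g) F V ↔ ClSub.IsProperOver
      (EtShriek.prV f ((EtCoh.bc g).obj V) ≫ EtShriek.prV g V)
      (EtShriek.sectSupp F _ (F.obj.map (bcIso f g V).hom.op s)) := by
    rw [mem_shriekSubgroup_iff, sectSupp_map]
    let e := (bcIso f g V).hom.left
    haveI : IsIso e := inferInstanceAs (IsIso (pullbackLeftPullbackSndIso V.hom g f).hom)
    constructor
    · intro h
      exact QCoh.IsProperOver.preimage (f := e) (bcIso_prV f g V) h
    · intro h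
      have := QCoh.IsProperOver.preimage (f := inv e) (p := EtShriek.prV (f ≫ g) V)
        ((congrArg (inv e ≫ ·) (bcIso_prV f g V).symm).trans (IsIso.inv_hom_id_assoc e _)) h
      rwa [show (inv e).base ⁻¹' (e.base ⁻¹' EtShriek.sectSupp F _ s) = EtShriek.sectSupp F _ s from
        Set.ext fun x => by
          show e.base ((inv e).base x) ∈ EtShriek.sectSupp F _ s ↔ x ∈ EtShriek.sectSupp F _ s
          rw [← Scheme.Hom.comp_apply, IsIso.inv_hom_id]
          rfl] at this
  haveI : LocallyOfFiniteType (EtShriek.prV g V) := inferInstance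
  haveI : IsSeparated (EtShriek.prV g V) := inferInstanceAs (IsSeparated (pullback.fst V.hom g))
  rw [key, isProperOver_comp_iff]
  constructor
  · rintro ⟨h1, h2⟩
    refine ⟨(mem_shriekSubgroup_iff f F _ _).2 h1, (mem_shriekSubgroup_iff g _ V _).2 ?_⟩
    rw [sectSupp_shriekSh]
    exact h2
  · rintro ⟨h1, h2⟩
    refine ⟨(mem_shriekSubgroup_iff f F _ _).1 h1, ?_⟩
    have := (mem_shriekSubgroup_iff g _ V _).1 h2
    rwa [sectSupp_shriekSh] at this

theorem map_hom_inv (F : EtCoh.Ab X) (V : Z.Etale) (t : EtCoh.sect F ((EtCoh.bc f).obj ((EtCoh.bc g).obj V))) :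
    F.obj.map (bcIso f g V).hom.op (F.obj.map (bcIso f g V).inv.op t) = t := by
  rw [map_map, Iso.hom_inv_id, op_id, F.obj.map_id]
  rfl

/-- `(g ∘ f)_! F = g_! f_! F` on sections -/
noncomputable def compEquiv (F : EtCoh.Ab X) (V : Z.Etale) :
    EtShriek.shriekSubgroup (f ≫ g) F V ≃+ EtShriek.shriekSubgroup g ((shriekSh f).obj F) V where
  toFun s := ⟨⟨_, ((mem_comp_iff f g F V s.1).1 s.2).fst⟩, ((mem_comp_iff f g F V s.1).1 s.2).snd⟩
  invFun σ := ⟨F.obj.map (bcIso f g V).inv.op σ.1.1, (mem_comp_iff f g F V _).2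
    ⟨(map_hom_inv f g F V σ.1.1).symm ▸ σ.1.2, Set.mem_of_eq_of_mem (Subtype.ext (map_hom_inv f g F V σ.1.1) :
      (⟨_, (map_hom_inv f g F V σ.1.1).symm ▸ σ.1.2⟩ : EtShriek.shriekSubgroup f F ((EtCoh.bc g).obj V)) = σ.1) σ.2⟩⟩
  left_inv s := Subtype.ext (by
    show F.obj.map (bcIso f g V).inv.op (F.obj.map (bcIso f g V).hom.op s.1) = s.1
    rw [map_map, Iso.inv_hom_id, op_id, F.obj.map_id]
    rfl)
  right_inv σ := Subtype.ext (Subtype.ext (map_hom_inv f g F V σ.1.1))
  map_add' a b := Subtype.ext (Subtype.ext (map_add _ _ _))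

/-- `(g ∘ f)_! ≅ g_! f_!` -/
noncomputable def shriekShComp : shriekSh (f ≫ g) ≅ shriekSh f ⋙ shriekSh g :=
  NatIso.ofComponents (fun F => (fullyFaithfulSheafToPresheaf _ _).preimageIso
    (NatIso.ofComponents (fun V => (compEquiv f g F V.unop).toAddCommGrpIso) (fun {V V'} φ => by
      ext s
      refine Subtype.ext (Subtype.ext ?_)
      show F.obj.map (bcIso f g V'.unop).hom.op (F.obj.map ((EtCoh.bc (f ≫ g)).map φ.unop).op s.1) =
        F.obj.map ((EtCoh.bc f).map ((EtCoh.bc g).map φ.unop)).op (F.obj.map (bcIso f g V.unop).hom.op s.1)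
      rw [map_map, map_map, bcIso_naturality])))
    (fun {F G} α => by
      refine ObjectProperty.hom_ext _ ?_
      ext V s
      refine Subtype.ext (Subtype.ext ?_)
      exact congr($(α.hom.naturality (bcIso f g V.unop).hom.op) s.1).symm)

end ShriekLib
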