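import Groth.Agent.ShriekLib.Supp
import Groth.Agent.EtFound.Descent

/-!
# The presheaf of sections with proper support is a sheaf
-/

universe u

open CategoryTheory CategoryTheory.Limits AlgebraicGeometry Opposite

namespace ShriekLib

set_option backward.isDefEq.respectTransparency false
set_option backward.isDefEq.respectTransparency.types false

open Groth.Agent

/-- properness of a closed subset is local on the base for the etale topology -/
theorem isProperOver_of_etale_cover {W V : Scheme.{u}} (p : W ⟶ V) [LocallyOfFiniteType p] {Z : Set W}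
    (hZ : IsClosed Z) {ι : Type u} {V' W' : ι → Scheme.{u}} (g : ∀ k, V' k ⟶ V) [∀ k, AlgebraicGeometry.Etale (g k)]
    (g' : ∀ k, W' k ⟶ W) (p' : ∀ k, W' k ⟶ V' k) (sq : ∀ k, IsPullback (g' k) (p' k) p (g k))
    (hcov : ∀ v : V, ∃ k, v ∈ Set.range (g k).base)
    (h : ∀ k, ClSub.IsProperOver (p' k) ((g' k).base ⁻¹' Z)) : ClSub.IsProperOver p Z := by
  refine ⟨hZ, ?_⟩
  let i := (Scheme.IdealSheafData.vanishingIdeal ⟨Z, hZ⟩).subschemeι
  let q : (∐ V') ⟶ V := Limits.Sigma.desc g
  haveI hq : AlgebraicGeometry.Etale q := IsZariskiLocalAtSource.sigmaDesc (P := @AlgebraicGeometry.Etale) inferInstance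
  haveI : Surjective q := ⟨fun v => by
    obtain ⟨k, w, hw⟩ := hcov v
    exact ⟨Limits.Sigma.ι V' k w, by rw [← Scheme.Hom.comp_apply]; simp [q, hw]⟩⟩
  have hk : ∀ k, IsProper (pullback.snd (i ≫ p) (g k)) := fun k => by
    haveI : LocallyOfFiniteType (p' k) := MorphismProperty.of_isPullback (sq k) inferInstance
    let j := pullback.fst (g' k) i
    have hr : Set.range j = (g' k).base ⁻¹' Z := by
      rw [Scheme.Pullback.range_fst, QCoh.range_vanishing]
    have hj : IsProper (j ≫ p' k) := QCoh.isProper_comp_of_isProperOver j (h k) hr.le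
    have sq' : IsPullback (pullback.snd (g' k) i) (j ≫ p' k) (i ≫ p) (g k) :=
      IsPullback.paste_vert (IsPullback.of_hasPullback (g' k) i).flip (sq k)
    rw [← sq'.isoPullback_inv_snd]
    infer_instance
  have hq' : IsProper (pullback.snd (i ≫ p) q) := by
    refine IsZariskiLocalAtTarget.of_openCover (P := @IsProper) (sigmaOpenCover V') fun k => ?_
    show IsProper (pullback.snd (pullback.snd (i ≫ p) q) (Limits.Sigma.ι V' k))
    rw [← pullbackLeftPullbackSndIso_hom_snd]
    haveI : IsProper (pullback.snd (i ≫ p) (Limits.Sigma.ι V' k ≫ q)) := by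
      have e : Limits.Sigma.ι V' k ≫ q = g k := Limits.Sigma.ι_desc _ _
      rw [e]
      exact hk k
    infer_instance
  have := EtFound.fpqc_isProper.{u}
  exact MorphismProperty.of_pullback_snd_of_descendsAlong (P := @IsProper)
    (Q := @Surjective ⊓ @Flat ⊓ @LocallyOfFinitePresentation) (f := i ≫ p) (g := q)
    ⟨⟨inferInstance, inferInstance⟩, inferInstance⟩ hq'

variable {X Y : Scheme.{u}} (f : X ⟶ Y) [LocallyOfFiniteType f]

theorem isSheaf_lowerShriekPre (F : EtCoh.Ab X) :
    Presheaf.IsSheaf Y.smallEtaleTopology (EtShriek.lowerShriekPre f F) := by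
  rw [Presheaf.isSheaf_iff_isSheaf_forget _ _ (forget AddCommGrpCat.{u + 1}), isSheaf_iff_isSheaf_of_type]
  have hG : Presieve.IsSheaf Y.smallEtaleTopology (((EtCoh.push f).obj F).obj ⋙ forget AddCommGrpCat.{u + 1}) :=
    (isSheaf_iff_isSheaf_of_type _ _).1 ((Presheaf.isSheaf_iff_isSheaf_forget _ _ _).1 ((EtCoh.push f).obj F).property)
  intro V R hR x hx
  let y : Presieve.FamilyOfElements (((EtCoh.push f).obj F).obj ⋙ forget AddCommGrpCat.{u + 1}) R.arrows :=
    fun W g hg => (x g hg).1
  have hy : y.Compatible := fun W₁ W₂ Z g₁ g₂ f₁ f₂ h₁ h₂ e => congrArg Subtype.val (hx g₁ g₂ h₁ h₂ e)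
  obtain ⟨t, ht, hu⟩ := hG R hR y hy
  have hR' := (EtFound.mem_topology_iff R).1 hR
  choose W g w hg hw using hR'
  haveI : ∀ v, AlgebraicGeometry.Etale (g v).left := fun v => EtFound.etale_left (g v)
  have htm : t ∈ EtShriek.shriekSubgroup f F V := by
    rw [mem_shriekSubgroup_iff]
    refine isProperOver_of_etale_cover (EtShriek.prV f V) (isClosed_sectSupp F _ t) (fun v => (g v).left)
      (fun v => ((EtCoh.bc f).map (g v)).left) (fun v => EtShriek.prV f (W v))
      (fun v => isPullback_prV f (g v)) (fun v => ⟨v, w v, hw v⟩) fun v => ?_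
    rw [← sectSupp_map]
    rw [show F.obj.map ((EtCoh.bc f).map (g v)).op t = (x (g v) (hg v)).1 from ht (g v) (hg v)]
    exact (mem_shriekSubgroup_iff f F (W v) _).1 (x (g v) (hg v)).2
  refine ⟨⟨t, htm⟩, fun W g hg => Subtype.ext (ht g hg), fun t' ht' => Subtype.ext ?_⟩
  exact hu t'.1 fun W g hg => congrArg Subtype.val (ht' g hg)

end ShriekLib
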