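import Groth.Agent.ShriekLib.Ext
import Groth.Agent.EtFound.CoprodSections

/-!
# Sections supported in a closed subset and etale neighbourhoods of it
-/

universe u

open CategoryTheory CategoryTheory.Limits AlgebraicGeometry Opposite

namespace ShriekLib

set_option backward.isDefEq.respectTransparency false
set_option backward.isDefEq.respectTransparency.types false
set_option linter.unusedSectionVars false
set_option linter.style.haveILetI false

open Groth.Agent

/-- points of a field with the same image agree, if the residue field does not grow -/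
theorem eq_of_comp_eq_of_residueFieldMap_bijective {A B : Scheme.{u}} (g : A ⟶ B) {K : Type u} [Field K]
    (a b : Spec (CommRingCat.of K) ⟶ A) (hx : a.base default = b.base default)
    (hres : Function.Bijective (g.residueFieldMap (a.base default))) (h : a ≫ g = b ≫ g) : a = b := by
  have key : ∀ (c : Spec (CommRingCat.of K) ⟶ A),
      ∃ α : A.residueField (c.base default) ⟶ CommRingCat.of K,
        Spec.map α ≫ A.fromSpecResidueField (c.base default) = c := by
    intro c
    have e : IsLocalRing.closedPoint K = (default : Spec (CommRingCat.of K)) := Subsingleton.elim _ _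
    rw [← e]
    exact ⟨_, Scheme.descResidueField_stalkClosedPointTo_fromSpecResidueField K A c⟩
  obtain ⟨α, hα⟩ := key a
  obtain ⟨β, hβ⟩ := key b
  obtain ⟨β', hβ⟩ : ∃ β' : A.residueField (a.base default) ⟶ CommRingCat.of K,
      Spec.map β' ≫ A.fromSpecResidueField (a.base default) = b := by
    refine ⟨(A.residueFieldCongr hx).hom ≫ β, ?_⟩
    rw [Spec.map_comp, Category.assoc, Scheme.residueFieldCongr_fromSpecResidueField]
    exact hβ
  haveI : IsIso (g.residueFieldMap (a.base default)) := (ConcreteCategory.isIso_iff_bijective _).2 hres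
  rw [← hα, ← hβ, Category.assoc, Category.assoc, ← Scheme.Hom.SpecMap_residueFieldMap_fromSpecResidueField,
    ← Category.assoc, ← Category.assoc, cancel_mono, cancel_mono] at h
  rw [← hα, ← hβ, h]

variable {X : Scheme.{u}} (F : EtCoh.Ab X) {U U' : X.Etale} (φ : U' ⟶ U) {Z : Set ↥U.left}

theorem sectSupp_sub (V : X.Etale) (s t : EtCoh.sect F V) :
    EtShriek.sectSupp F V (s - t) ⊆ EtShriek.sectSupp F V s ∪ EtShriek.sectSupp F V t := by
  rw [sub_eq_add_neg]
  refine (sectSupp_add F V s (-t)).trans ?_
  rw [sectSupp_neg]

theorem restrict_bijOn (hZ : IsClosed Z) (hbij : Set.BijOn φ.left.base (φ.left.base ⁻¹' Z) Z)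
    (hres : ∀ x ∈ φ.left.base ⁻¹' Z, Function.Bijective (φ.left.residueFieldMap x)) :
    Set.BijOn (F.obj.map φ.op) {s | EtShriek.sectSupp F U s ⊆ Z}
      {s' | EtShriek.sectSupp F U' s' ⊆ φ.left.base ⁻¹' Z} := by
  refine ⟨fun s hs => ?_, fun s hs t ht hst => ?_, fun s' hs' => ?_⟩
  · show EtShriek.sectSupp F U' (F.obj.map φ.op s) ⊆ _
    rw [sectSupp_map]
    exact Set.preimage_mono hs
  · refine sub_eq_zero.1 (eq_zero_of_sectSupp_empty (Set.eq_empty_iff_forall_notMem.2 fun x hx => ?_))
    have hxZ : x ∈ Z := (sectSupp_sub F U s t).trans (Set.union_subset hs ht) hx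
    obtain ⟨y, -, rfl⟩ := hbij.surjOn hxZ
    have : y ∈ EtShriek.sectSupp F U' (F.obj.map φ.op (s - t)) := by
      rw [sectSupp_map]; exact hx
    rw [map_sub, hst, sub_self, sectSupp_zero] at this
    exact this
  · let O : U.left.Opens := ⟨Zᶜ, hZ.isOpen_compl⟩
    let W : Bool → X.Etale := fun b => Bool.rec (EtFound.restrictEtale U O) U' b
    let g : ∀ b, W b ⟶ U := fun b => Bool.rec (EtFound.restrictEtaleHom U O) φ b
    have hcov : ∀ x : U.left, ∃ (b : Bool) (w : (W b).left), (g b).left.base w = x := by
      intro x
      by_cases hx : x ∈ Z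
      · obtain ⟨y, -, hy⟩ := hbij.surjOn hx
        exact ⟨true, y, hy⟩
      · obtain ⟨y, hy⟩ : x ∈ Set.range O.ι.base := by
          rw [O.range_ι]; exact hx
        exact ⟨false, y, hy⟩
    let x : ∀ b, EtCoh.sect F (W b) := fun b => Bool.rec (motive := fun b => EtCoh.sect F (W b)) 0 s' b
    have hO : ∀ w : (W false).left, (g false).left.base w ∉ Z := fun w => by
      have : (g false).left.base w ∈ Set.range O.ι.base := ⟨w, rfl⟩
      rw [O.range_ι] at this
      exact this
    have hoff : ∀ (V : X.Etale) (a : V ⟶ U') (c : V ⟶ W false), a ≫ φ = c ≫ g false →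
        F.obj.map a.op s' = 0 := by
      intro V a c e
      refine eq_zero_of_sectSupp_empty (Set.eq_empty_iff_forall_notMem.2 fun v hv => ?_)
      rw [sectSupp_map] at hv
      have h1 : φ.left.base (a.left.base v) ∈ Z := hs' hv
      rw [show φ.left.base (a.left.base v) = (g false).left.base (c.left.base v) from
        congrArg (fun q : V ⟶ U => q.left.base v) e] at h1
      exact hO _ h1
    have hc : Presieve.Arrows.Compatible (F.obj ⋙ forget AddCommGrpCat.{u + 1}) g x := by
      rintro (_ | _) (_ | _) V a c e
      · show F.obj.map a.op (0 : EtCoh.sect F (W false)) = F.obj.map c.op (0 : EtCoh.sect F (W false))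
        rw [map_zero, map_zero]
      · show F.obj.map a.op (0 : EtCoh.sect F (W false)) = F.obj.map c.op s'
        rw [map_zero, hoff V c a e.symm]
      · show F.obj.map a.op s' = F.obj.map c.op (0 : EtCoh.sect F (W false))
        rw [map_zero, hoff V a c e]
      · show F.obj.map a.op s' = F.obj.map c.op s'
        refine sub_eq_zero.1 (eq_zero_of_sectSupp_empty ?_)
        rw [sectSupp_eq_germSupp]
        refine Set.eq_empty_iff_forall_notMem.2 fun v hv => ?_
        obtain ⟨k, _, _, ξ, z, rfl⟩ := EtFound.exists_algClosed_point V v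
        apply (EtFound.mem_germSupp_iff _ z).1 hv
        rw [map_sub, (Scheme.pointSmallEtale ξ).toPresheafFiber_w_apply,
          (Scheme.pointSmallEtale ξ).toPresheafFiber_w_apply, sub_eq_zero]
        let za := (Scheme.pointSmallEtale ξ).fiber.map a z
        let zc := (Scheme.pointSmallEtale ξ).fiber.map c z
        have hac : φ.left.base (EtFound.ptOf za) = φ.left.base (EtFound.ptOf zc) := by
          rw [EtFound.ptOf_map, EtFound.ptOf_map]
          exact congrArg (fun q : V ⟶ U => q.left.base (EtFound.ptOf z)) e
        by_cases hm : φ.left.base (EtFound.ptOf za) ∈ Z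
        · have : za = zc := by
            refine CategoryTheory.Over.OverMorphism.ext
              (eq_of_comp_eq_of_residueFieldMap_bijective φ.left _ _ ?_ (hres _ hm) ?_)
            · exact hbij.injOn hm (show φ.left.base (EtFound.ptOf zc) ∈ Z from hac ▸ hm) hac
            · show ((z.left : Spec (CommRingCat.of k) ⟶ V.left) ≫ a.left) ≫ φ.left = (_ ≫ c.left) ≫ φ.left
              rw [Category.assoc, Category.assoc]
              exact congrArg (fun q : V ⟶ U => z.left ≫ q.left) e
          exact congrArg (fun q => (Scheme.pointSmallEtale ξ).toPresheafFiber U' q F.obj s') this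
        · have h0 : ∀ w : (Scheme.pointSmallEtale ξ).fiber.obj U', φ.left.base (EtFound.ptOf w) ∉ Z →
              (Scheme.pointSmallEtale ξ).toPresheafFiber U' w F.obj s' = 0 := by
            intro w hw
            by_contra hne
            have := (EtFound.mem_germSupp_iff s' w).2 hne
            rw [← sectSupp_eq_germSupp] at this
            exact hw (hs' this)
          exact (h0 za hm).trans (h0 zc (hac ▸ hm)).symm
    obtain ⟨s, hs, -⟩ := (Presieve.isSheafFor_arrows_iff _ _).1 (EtFound.isSheafFor_of_covers F W g hcov) x hc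
    refine ⟨s, fun y hy => ?_, hs true⟩
    by_contra hyZ
    obtain ⟨w, hw⟩ : y ∈ Set.range O.ι.base := by rw [O.range_ι]; exact hyZ
    exact not_mem_sectSupp.2 ⟨W false, g false, ⟨w, hw⟩, hs false⟩ hy

end ShriekLib
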