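import Groth.Prelude.Def_EtTens2
import Groth.Agent.EtFound.Basic
import Mathlib.CategoryTheory.Sites.Point.Skyscraper

/-!
# Stalks of tensor products of presheaves of abelian groups
-/

universe u

open CategoryTheory CategoryTheory.Limits AlgebraicGeometry Opposite TensorProduct

namespace ShriekLib

set_option backward.isDefEq.respectTransparency false
set_option backward.isDefEq.respectTransparency.types false
set_option linter.style.haveILetI false

variable {X : Scheme.{u}} {Ω : Type u} [Field Ω] [IsSepClosed Ω] (ξ : Spec (CommRingCat.of Ω) ⟶ X)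
  (P Q : X.Etaleᵒᵖ ⥤ AddCommGrpCat.{u + 1})

local notation "Φ" => Scheme.pointSmallEtale ξ

/-- the stalk of a presheaf of abelian groups -/
noncomputable abbrev Fib (R : X.Etaleᵒᵖ ⥤ AddCommGrpCat.{u + 1}) : AddCommGrpCat.{u + 1} :=
  (Φ).presheafFiber.obj R

theorem exists_common_nbd {V V' : X.Etale} (v : (Φ).fiber.obj V) (v' : (Φ).fiber.obj V') :
    ∃ (W : X.Etale) (a : W ⟶ V) (b : W ⟶ V') (w : (Φ).fiber.obj W),
      (Φ).fiber.map a w = v ∧ (Φ).fiber.map b w = v' := by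
  let E₁ := (Φ).fiber.elementsMk V v
  let E₂ := (Φ).fiber.elementsMk V' v'
  exact ⟨(IsCofiltered.min E₁ E₂).1, (IsCofiltered.minToLeft E₁ E₂).1, (IsCofiltered.minToRight E₁ E₂).1,
    (IsCofiltered.min E₁ E₂).2, (IsCofiltered.minToLeft E₁ E₂).2, (IsCofiltered.minToRight E₁ E₂).2⟩

theorem exists_rep₂ (p : Fib ξ P) (q : Fib ξ Q) :
    ∃ (V : X.Etale) (v : (Φ).fiber.obj V) (a : P.obj (op V)) (b : Q.obj (op V)),
      (Φ).toPresheafFiber V v P a = p ∧ (Φ).toPresheafFiber V v Q b = q := by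
  obtain ⟨V, v, a, rfl⟩ := (Φ).toPresheafFiber_jointly_surjective p
  obtain ⟨V', v', b, rfl⟩ := (Φ).toPresheafFiber_jointly_surjective q
  obtain ⟨W, c, c', w, rfl, rfl⟩ := exists_common_nbd ξ v v'
  exact ⟨W, w, P.map c.op a, Q.map c'.op b, (Φ).toPresheafFiber_w_apply c w P a, (Φ).toPresheafFiber_w_apply c' w Q b⟩

/-- the germ of a pure tensor -/
noncomputable def tgerm (V : X.Etale) (v : (Φ).fiber.obj V) (a : P.obj (op V)) (b : Q.obj (op V)) :
    Fib ξ (EtTens.tensorObj P Q) :=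
  (Φ).toPresheafFiber V v (EtTens.tensorObj P Q) (a ⊗ₜ b)

theorem tgerm_map {V W : X.Etale} (c : W ⟶ V) (w : (Φ).fiber.obj W) (a : P.obj (op V)) (b : Q.obj (op V)) :
    tgerm ξ P Q W w (P.map c.op a) (Q.map c.op b) = tgerm ξ P Q V ((Φ).fiber.map c w) a b :=
  (congrArg ((Φ).toPresheafFiber W w (EtTens.tensorObj P Q)) (EtTens.tensorObj_map_tmul P Q c.op a b).symm).trans
    ((Φ).toPresheafFiber_w_apply c w (EtTens.tensorObj P Q) (a ⊗ₜ b))

theorem tgerm_congr {V V' : X.Etale} (v : (Φ).fiber.obj V) (v' : (Φ).fiber.obj V') {a : P.obj (op V)}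
    {b : Q.obj (op V)} {a' : P.obj (op V')} {b' : Q.obj (op V')}
    (ha : (Φ).toPresheafFiber V v P a = (Φ).toPresheafFiber V' v' P a')
    (hb : (Φ).toPresheafFiber V v Q b = (Φ).toPresheafFiber V' v' Q b') :
    tgerm ξ P Q V v a b = tgerm ξ P Q V' v' a' b' := by
  obtain ⟨W, c, c', w, rfl, rfl⟩ := exists_common_nbd ξ v v'
  rw [← tgerm_map, ← tgerm_map]
  rw [← (Φ).toPresheafFiber_w_apply, ← (Φ).toPresheafFiber_w_apply] at ha hb
  obtain ⟨W₁, d, w₁, rfl, hd⟩ := ((Φ).toPresheafFiber_eq_iff' W w _ _).1 ha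
  rw [← (Φ).toPresheafFiber_w_apply, ← (Φ).toPresheafFiber_w_apply] at hb
  obtain ⟨W₂, e, w₂, rfl, he⟩ := ((Φ).toPresheafFiber_eq_iff' W₁ w₁ _ _).1 hb
  rw [← tgerm_map, ← tgerm_map, ← tgerm_map, ← tgerm_map, hd, he]

open Classical in
/-- well-defined product of germs -/
noncomputable def germMul (p : Fib ξ P) (q : Fib ξ Q) :
    Fib ξ (EtTens.tensorObj P Q) :=
  let h := exists_rep₂ ξ P Q p q
  tgerm ξ P Q h.choose h.choose_spec.choose h.choose_spec.choose_spec.choose
    h.choose_spec.choose_spec.choose_spec.choose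

theorem germMul_germ (V : X.Etale) (v : (Φ).fiber.obj V) (a : P.obj (op V)) (b : Q.obj (op V)) :
    germMul ξ P Q ((Φ).toPresheafFiber V v P a) ((Φ).toPresheafFiber V v Q b) = tgerm ξ P Q V v a b := by
  have h := exists_rep₂ ξ P Q ((Φ).toPresheafFiber V v P a) ((Φ).toPresheafFiber V v Q b)
  exact tgerm_congr ξ P Q _ v h.choose_spec.choose_spec.choose_spec.choose_spec.1
    h.choose_spec.choose_spec.choose_spec.choose_spec.2

theorem germMul_add_left (p p' : Fib ξ P) (q : Fib ξ Q) :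
    germMul ξ P Q (p + p') q = germMul ξ P Q p q + germMul ξ P Q p' q := by
  obtain ⟨V, v, a, b, rfl, rfl⟩ := exists_rep₂ ξ P Q p q
  obtain ⟨V', v', a', rfl⟩ := (Φ).toPresheafFiber_jointly_surjective p'
  obtain ⟨W, c, c', w, rfl, rfl⟩ := exists_common_nbd ξ v v'
  rw [← (Φ).toPresheafFiber_w_apply c w P, ← (Φ).toPresheafFiber_w_apply c' w P,
    ← (Φ).toPresheafFiber_w_apply c w Q, ← map_add, germMul_germ, germMul_germ, germMul_germ]
  exact (congrArg ((Φ).toPresheafFiber W w (EtTens.tensorObj P Q)) (TensorProduct.add_tmul _ _ _)).trans (map_add _ _ _)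

theorem germMul_add_right (p : Fib ξ P) (q q' : Fib ξ Q) :
    germMul ξ P Q p (q + q') = germMul ξ P Q p q + germMul ξ P Q p q' := by
  obtain ⟨V, v, a, b, rfl, rfl⟩ := exists_rep₂ ξ P Q p q
  obtain ⟨V', v', b', rfl⟩ := (Φ).toPresheafFiber_jointly_surjective q'
  obtain ⟨W, c, c', w, rfl, rfl⟩ := exists_common_nbd ξ v v'
  rw [← (Φ).toPresheafFiber_w_apply c w P, ← (Φ).toPresheafFiber_w_apply c' w Q,
    ← (Φ).toPresheafFiber_w_apply c w Q, ← map_add, germMul_germ, germMul_germ, germMul_germ]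
  exact (congrArg ((Φ).toPresheafFiber W w (EtTens.tensorObj P Q)) (TensorProduct.tmul_add _ _ _)).trans (map_add _ _ _)

/-- `P_ξ ⊗ Q_ξ ⟶ (P ⊗ Q)_ξ` -/
noncomputable def fiberTensor :
    (Fib ξ P : Type (u + 1)) ⊗[ℤ] (Fib ξ Q : Type (u + 1)) →+
      Fib ξ (EtTens.tensorObj P Q) :=
  TensorProduct.liftAddHom
    (AddMonoidHom.mk' (fun p => AddMonoidHom.mk' (germMul ξ P Q p) (germMul_add_right ξ P Q p))
      fun p p' => AddMonoidHom.ext fun q => germMul_add_left ξ P Q p p' q)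
    fun n p q => by
      show germMul ξ P Q (n • p) q = germMul ξ P Q p (n • q)
      exact (map_zsmul (AddMonoidHom.mk' (fun p => germMul ξ P Q p q) fun p p' => germMul_add_left ξ P Q p p' q) n p).trans
        (map_zsmul (AddMonoidHom.mk' (germMul ξ P Q p) (germMul_add_right ξ P Q p)) n q).symm

theorem fiberTensor_germ (V : X.Etale) (v : (Φ).fiber.obj V) (a : P.obj (op V)) (b : Q.obj (op V)) :
    fiberTensor ξ P Q ((Φ).toPresheafFiber V v P a ⊗ₜ (Φ).toPresheafFiber V v Q b) =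
      (Φ).toPresheafFiber V v (EtTens.tensorObj P Q) (a ⊗ₜ b) :=
  germMul_germ ξ P Q V v a b

theorem fiberTensor_bijective : Function.Bijective (fiberTensor ξ P Q) := by
  let ν : Fib ξ (EtTens.tensorObj P Q) ⟶
      AddCommGrpCat.of ((Fib ξ P : Type (u + 1)) ⊗[ℤ] (Fib ξ Q : Type (u + 1))) :=
    (Φ).presheafFiberDesc
      (fun V v => AddCommGrpCat.ofHom (TensorProduct.map ((Φ).toPresheafFiber V v P).hom.toIntLinearMap
        ((Φ).toPresheafFiber V v Q).hom.toIntLinearMap).toAddMonoidHom)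
      (fun {V V'} c v => EtTens.hom_ext_tmul fun a b => by
        show (Φ).toPresheafFiber V v P (P.map c.op a) ⊗ₜ[ℤ] (Φ).toPresheafFiber V v Q (Q.map c.op b) = _
        rw [(Φ).toPresheafFiber_w_apply, (Φ).toPresheafFiber_w_apply]
        rfl)
  refine ⟨Function.LeftInverse.injective (g := ν) fun y => ?_, fun y => ?_⟩
  · induction y using TensorProduct.induction_on with
    | zero => rw [map_zero, map_zero]
    | tmul p q =>
      obtain ⟨V, v, a, b, rfl, rfl⟩ := exists_rep₂ ξ P Q p q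
      rw [fiberTensor_germ]
      exact ConcreteCategory.congr_hom ((Φ).toPresheafFiber_presheafFiberDesc (P := EtTens.tensorObj P Q) _ _ V v) (a ⊗ₜ b)
    | add a b ha hb => rw [map_add, map_add, ha, hb]
  · obtain ⟨V, v, z, rfl⟩ := (Φ).toPresheafFiber_jointly_surjective y
    induction z using TensorProduct.induction_on with
    | zero => exact ⟨0, (map_zero _).trans (map_zero _).symm⟩
    | tmul a b => exact ⟨_, fiberTensor_germ ξ P Q V v a b⟩
    | add a b ha hb =>
      obtain ⟨x, hx⟩ := ha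
      obtain ⟨y, hy⟩ := hb
      exact ⟨x + y, by rw [map_add, hx, hy]; exact (map_add _ _ _).symm⟩

end ShriekLib
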