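import Groth.Agent.ShriekLib.Lqf
import Groth.Agent.ShriekLib.TensorFiber
import Groth.Agent.EtFound.PullGerm
import Mathlib.LinearAlgebra.DirectSum.TensorProduct

/-!
# Projection formula for `f_!`, separated locally quasi-finite `f`
-/

universe u

open CategoryTheory CategoryTheory.Limits AlgebraicGeometry Opposite TensorProduct

namespace ShriekLib

set_option backward.isDefEq.respectTransparency false
set_option backward.isDefEq.respectTransparency.types false
set_option linter.unusedSectionVars false
set_option linter.style.haveILetI false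

open Groth.Agent

/-- isomorphisms of sheaves can be tested on algebraically closed geometric points -/
theorem isIso_of_algClosed_stalks {X : Scheme.{u}} {F G : EtCoh.Ab X} (α : F ⟶ G)
    (h : ∀ (k : Type u) [Field k] [IsAlgClosed k] (ξ : Spec (CommRingCat.of k) ⟶ X),
      Function.Bijective ((EtCoh.stalk ξ).map α)) : IsIso α := by
  haveI : Mono α := by
    have : ∀ V, Mono (α.hom.app V) := fun V => (AddCommGrpCat.mono_iff_injective _).2
      ((injective_iff_map_eq_zero _).2 fun s hs => eq_zero_of_sectSupp_empty (Set.eq_empty_iff_forall_notMem.2 fun x hx => by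
        rw [sectSupp_eq_germSupp] at hx
        obtain ⟨k, _, _, ξ, z, rfl⟩ := EtFound.exists_algClosed_point _ x
        refine (EtFound.mem_germSupp_iff s z).1 hx ((h k ξ).1 ?_)
        refine ((Scheme.pointSmallEtale ξ).toPresheafFiber_naturality_apply α.hom _ z s).trans ?_
        exact (congrArg _ hs).trans ((map_zero _).trans (map_zero _).symm)))
    have := NatTrans.mono_of_mono_app α.hom
    exact (sheafToPresheaf _ _).mono_of_mono_map this
  haveI : Epi α := by
    refine (Sheaf.isLocallySurjective_iff_epi' _ _).1 ⟨fun {V} t => (EtFound.mem_topology_iff _).2 fun x => ?_⟩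
    obtain ⟨k, _, _, η, v, rfl⟩ := EtFound.exists_algClosed_point V x
    obtain ⟨x₀, hx₀⟩ := (h k η).2 ((Scheme.pointSmallEtale η).toPresheafFiber V v G.obj t)
    obtain ⟨V', v', s, rfl⟩ := (Scheme.pointSmallEtale η).toPresheafFiber_jointly_surjective x₀
    have e : (Scheme.pointSmallEtale η).toPresheafFiber V' v' G.obj (α.hom.app (op V') s) =
        (Scheme.pointSmallEtale η).toPresheafFiber V v G.obj t :=
      ((Scheme.pointSmallEtale η).toPresheafFiber_naturality_apply α.hom V' v' s).symm.trans hx₀
    obtain ⟨W₀, a₀, b₀, w₀, rfl, rfl⟩ := exists_common_nbd η v' v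
    rw [← (Scheme.pointSmallEtale η).toPresheafFiber_w_apply,
      ← (Scheme.pointSmallEtale η).toPresheafFiber_w_apply] at e
    obtain ⟨W, c, w, rfl, hab⟩ := ((Scheme.pointSmallEtale η).toPresheafFiber_eq_iff' _ _ _ _).1 e
    refine ⟨W, c ≫ b₀, EtFound.ptOf w, ⟨F.obj.map (c ≫ a₀).op s, ?_⟩, ?_⟩
    · refine (NatTrans.naturality_apply α.hom (c ≫ a₀).op s).trans ?_
      rw [← map_map, ← map_map]
      exact hab
    · refine (EtFound.ptOf_map (c ≫ b₀) w).symm.trans (congrArg EtFound.ptOf ?_)
      exact ConcreteCategory.congr_hom ((Scheme.pointSmallEtale η).fiber.map_comp c b₀) w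
  exact isIso_of_mono_of_epi α

variable {X Y : Scheme.{u}} (f : X ⟶ Y) [LocallyOfFiniteType f] (F : EtCoh.Ab X) (G : EtCoh.Ab Y)

/-- `F ⊗ f^{-1} G` -/
noncomputable abbrev projTarget : EtCoh.Ab X := (EtTens.tensorBi.obj F).obj ((EtCoh.pull f).obj G)

/-- `s ⊗ f^{-1} t` -/
noncomputable def projSec (V : Y.Etale) (s : EtCoh.sect F ((EtCoh.bc f).obj V)) (t : EtCoh.sect G V) :
    EtCoh.sect (projTarget f F G) ((EtCoh.bc f).obj V) :=
  (toSheafify X.smallEtaleTopology (EtTens.tensorObj F.obj ((EtCoh.pull f).obj G).obj)).app _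
    (s ⊗ₜ ((EtCoh.pullPushAdj f).unit.app G).hom.app (op V) t)

theorem projSec_mem (V : Y.Etale) (s : EtShriek.shriekSubgroup f F V) (t : EtCoh.sect G V) :
    projSec f F G V s.1 t ∈ EtShriek.shriekSubgroup f (projTarget f F G) V := by
  rw [mem_shriekSubgroup_iff]
  refine QCoh.IsProperOver.subset ((mem_shriekSubgroup_iff f F V s.1).1 s.2) (isClosed_sectSupp _ _ _) fun x hx => ?_
  intro W g hw h0
  apply hx W g hw
  refine (NatTrans.naturality_apply (toSheafify X.smallEtaleTopology (EtTens.tensorObj F.obj ((EtCoh.pull f).obj G).obj))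
    g.op _).symm.trans ?_
  rw [EtTens.tensorObj_map_tmul, h0, TensorProduct.zero_tmul]
  exact map_zero _

/-- `f_! F ⊗ G ⟶ f_! (F ⊗ f^{-1} G)` on presheaves -/
noncomputable def projPre :
    EtTens.tensorObj ((shriekSh f).obj F).obj G.obj ⟶ ((shriekSh f).obj (projTarget f F G)).obj where
  app V := AddCommGrpCat.ofHom (TensorProduct.liftAddHom
    (AddMonoidHom.mk' (fun s : EtShriek.shriekSubgroup f F V.unop =>
      AddMonoidHom.mk' (fun t : EtCoh.sect G V.unop =>
          (⟨projSec f F G V.unop s.1 t, projSec_mem f F G V.unop s t⟩ : EtShriek.shriekSubgroup f (projTarget f F G) V.unop))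
        (fun t t' => Subtype.ext (by
          show projSec f F G V.unop s.1 (t + t') = projSec f F G V.unop s.1 t + projSec f F G V.unop s.1 t'
          unfold projSec
          rw [map_add, TensorProduct.tmul_add]
          exact map_add _ _ _)))
      (fun s s' => AddMonoidHom.ext fun t => Subtype.ext (by
        show projSec f F G V.unop (s.1 + s'.1) t = projSec f F G V.unop s.1 t + projSec f F G V.unop s'.1 t
        unfold projSec
        rw [TensorProduct.add_tmul]
        exact map_add _ _ _)))
    (fun n s t => Subtype.ext (by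
      show projSec f F G V.unop (n • s.1) t = projSec f F G V.unop s.1 (n • t)
      unfold projSec
      rw [map_zsmul, TensorProduct.smul_tmul])))
  naturality V V' φ := EtTens.hom_ext_tmul fun s t => Subtype.ext (by
    show projSec f F G V'.unop (F.obj.map ((EtCoh.bc f).map φ.unop).op s.1) (G.obj.map φ t) =
      (projTarget f F G).obj.map ((EtCoh.bc f).map φ.unop).op (projSec f F G V.unop s.1 t)
    unfold projSec
    erw [NatTrans.naturality_apply ((EtCoh.pullPushAdj f).unit.app G).hom φ t]
    refine Eq.trans ?_ (NatTrans.naturality_apply (toSheafify X.smallEtaleTopology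
      (EtTens.tensorObj F.obj ((EtCoh.pull f).obj G).obj)) ((EtCoh.bc f).map φ.unop).op _)
    rw [EtTens.tensorObj_map_tmul]
    rfl)

/-- `f_! F ⊗ G ⟶ f_! (F ⊗ f^{-1} G)` -/
noncomputable def projMap :
    (EtTens.tensorBi.obj ((shriekSh f).obj F)).obj G ⟶ (shriekSh f).obj (projTarget f F G) :=
  ((sheafificationAdjunction Y.smallEtaleTopology AddCommGrpCat.{u + 1}).homEquiv _ _).symm (projPre f F G)

theorem toSheafify_projMap :
    toSheafify Y.smallEtaleTopology (EtTens.tensorObj ((shriekSh f).obj F).obj G.obj) ≫ (projMap f F G).hom =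
      projPre f F G := by
  refine ((sheafificationAdjunction Y.smallEtaleTopology AddCommGrpCat.{u + 1}).homEquiv_unit
    (EtTens.tensorObj ((shriekSh f).obj F).obj G.obj) ((shriekSh f).obj (projTarget f F G)) (projMap f F G)).symm.trans ?_
  exact Equiv.apply_symm_apply _ _

/-- pulling back germs -/
theorem exists_pullStalk {Ω : Type u} [Field Ω] [IsSepClosed Ω] {η : Spec (CommRingCat.of Ω) ⟶ Y}
    {ξ : Spec (CommRingCat.of Ω) ⟶ X} (hξ : ξ ≫ f = η) :
    ∃ κ : (Fib η G.obj : Type (u + 1)) →+ (Fib ξ ((EtCoh.pull f).obj G).obj : Type (u + 1)),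
      Function.Bijective κ ∧ ∀ (V : Y.Etale) (v : (Scheme.pointSmallEtale η).fiber.obj V) (t : EtCoh.sect G V),
        κ ((Scheme.pointSmallEtale η).toPresheafFiber V v G.obj t) =
          (Scheme.pointSmallEtale ξ).toPresheafFiber ((EtCoh.bc f).obj V) (EtFound.liftPt f hξ v)
            ((EtCoh.pull f).obj G).obj (((EtCoh.pullPushAdj f).unit.app G).hom.app (op V) t) := by
  subst hξ
  let e := (EtFound.sheafFiberPullIso (A := AddCommGrpCat.{u + 1}) f ξ).app G
  refine ⟨e.inv.hom, (ConcreteCategory.isIso_iff_bijective e.inv).1 inferInstance, fun V v t => ?_⟩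
  have h := ConcreteCategory.congr_hom (EtFound.sheafFiberPullIso_germ f ξ G V (EtFound.liftPt f rfl v)) t
  rw [show EtFound.bcFiberEquiv f ξ V (EtFound.liftPt f rfl v) = v from
    (EtFound.bcFiberEquiv f ξ V).apply_symm_apply v] at h
  exact h

variable [IsSeparated f] [LocallyQuasiFinite f]

theorem lqfProj_projPre {k : Type u} [Field k] [IsAlgClosed k] {η : Spec (CommRingCat.of k) ⟶ Y}
    (z : EtFound.PtsOver f η) (V : Y.Etale) (v : (Scheme.pointSmallEtale η).fiber.obj V)
    (s : EtShriek.shriekSubgroup f F V) (t : EtCoh.sect G V) :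
    lqfProj f z (projTarget f F G) ((Scheme.pointSmallEtale η).presheafFiber.map (projPre f F G)
        ((Scheme.pointSmallEtale η).toPresheafFiber V v (EtTens.tensorObj ((shriekSh f).obj F).obj G.obj) (s ⊗ₜ t))) =
      (Scheme.pointSmallEtale z.1).toPresheafFiber ((EtCoh.bc f).obj V) (EtFound.liftPt f z.2 v) (projTarget f F G).obj
        (projSec f F G V s.1 t) := by
  have h1 : (Scheme.pointSmallEtale η).presheafFiber.map (projPre f F G)
      ((Scheme.pointSmallEtale η).toPresheafFiber V v (EtTens.tensorObj ((shriekSh f).obj F).obj G.obj) (s ⊗ₜ t)) =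
      (Scheme.pointSmallEtale η).toPresheafFiber V v ((shriekSh f).obj (projTarget f F G)).obj
        ((projPre f F G).app (op V) (s ⊗ₜ t)) :=
    (Scheme.pointSmallEtale η).toPresheafFiber_naturality_apply (projPre f F G) V v _
  have h2 : (projPre f F G).app (op V) (s ⊗ₜ t) =
      (⟨projSec f F G V s.1 t, projSec_mem f F G V s t⟩ : EtShriek.shriekSubgroup f (projTarget f F G) V) := rfl
  rw [h1]
  erw [h2]
  exact lqfProj_germ f z (projTarget f F G) V v ⟨projSec f F G V s.1 t, projSec_mem f F G V s t⟩

set_option maxHeartbeats 1600000 in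
theorem isIso_projMap : IsIso (projMap f F G) := by
  refine isIso_of_algClosed_stalks _ fun k _ _ η => ?_
  classical
  let Φ := Scheme.pointSmallEtale η
  let P := EtFound.PtsOver f η
  let T := projTarget f F G
  let S := ((shriekSh f).obj F).obj
  haveI hiso : IsIso (Φ.presheafFiber.map (toSheafify Y.smallEtaleTopology (EtTens.tensorObj S G.obj))) := inferInstance
  suffices h : Function.Bijective (Φ.presheafFiber.map (projPre f F G)) by
    rw [← toSheafify_projMap, Φ.presheafFiber.map_comp] at h
    exact (Function.Bijective.of_comp_iff _ ((ConcreteCategory.isIso_iff_bijective _).1 hiso)).1 h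
  choose κ hκb hκ using fun z : P => exists_pullStalk f G z.2
  -- the composite on the stalk at `z`
  let τ : ∀ z : P, (Fib z.1 (EtTens.tensorObj F.obj ((EtCoh.pull f).obj G).obj) : Type (u + 1)) →+ Fib z.1 T.obj :=
    fun z => ((Scheme.pointSmallEtale z.1).presheafFiber.map
      (toSheafify X.smallEtaleTopology (EtTens.tensorObj F.obj ((EtCoh.pull f).obj G).obj))).hom
  let E : ∀ z : P, (Fib z.1 F.obj : Type (u + 1)) ⊗[ℤ] (Fib η G.obj : Type (u + 1)) →+ Fib z.1 T.obj :=
    fun z => ((τ z).comp (fiberTensor z.1 F.obj ((EtCoh.pull f).obj G).obj)).comp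
      (TensorProduct.map LinearMap.id (κ z).toIntLinearMap).toAddMonoidHom
  have hE : ∀ z, Function.Bijective (E z) := fun z => by
    refine (Function.Bijective.comp ((ConcreteCategory.isIso_iff_bijective ((Scheme.pointSmallEtale z.1).presheafFiber.map
      (toSheafify X.smallEtaleTopology (EtTens.tensorObj F.obj ((EtCoh.pull f).obj G).obj)))).1 inferInstance)
      (fiberTensor_bijective z.1 _ _)).comp ?_
    exact (TensorProduct.congr (LinearEquiv.refl ℤ _) (LinearEquiv.ofBijective (κ z).toIntLinearMap (hκb z))).bijective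
  let μ := fiberTensor η S G.obj
  have hcomp : ∀ (z : P) (x : Fib η S) (g : Fib η G.obj),
      lqfProj f z T (Φ.presheafFiber.map (projPre f F G) (μ (x ⊗ₜ g))) = E z (lqfProj f z F x ⊗ₜ g) := by
    intro z x g
    obtain ⟨V, v, s, t, rfl, rfl⟩ := exists_rep₂ η S G.obj x g
    rw [show μ (_ ⊗ₜ[ℤ] _) = _ from fiberTensor_germ η S G.obj V v s t]
    refine (lqfProj_projPre f F G z V v s t).trans ?_
    refine Eq.trans ?_ (congrArg (fun m : Fib z.1 F.obj => E z (m ⊗ₜ[ℤ] Φ.toPresheafFiber V v G.obj t))
      (lqfProj_germ f z F V v s).symm)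
    show _ = τ z (fiberTensor z.1 F.obj ((EtCoh.pull f).obj G).obj (_ ⊗ₜ[ℤ] κ z (Φ.toPresheafFiber V v G.obj t)))
    rw [hκ z V v t]; erw [fiberTensor_germ]
    exact ((Scheme.pointSmallEtale z.1).toPresheafFiber_naturality_apply (toSheafify X.smallEtaleTopology
      (EtTens.tensorObj F.obj ((EtCoh.pull f).obj G).obj)) _ _ _).symm
  suffices h : Function.Bijective (fun y => Φ.presheafFiber.map (projPre f F G) (μ y)) from
    (Function.Bijective.of_comp_iff _ (fiberTensor_bijective η S G.obj)).1 h
  let M : P → Type (u + 1) := fun z => Fib z.1 F.obj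
  obtain ⟨e, he⟩ := exists_directSum_equiv f (η := η) F
  let D : (Fib η S : Type (u + 1)) ⊗[ℤ] (Fib η G.obj : Type (u + 1)) ≃ₗ[ℤ] DirectSum P (fun z => M z ⊗[ℤ] (Fib η G.obj : Type (u + 1))) :=
    (TensorProduct.congr e.toIntLinearEquiv (LinearEquiv.refl ℤ _)).trans
      (TensorProduct.directSumLeft ℤ ℤ M (Fib η G.obj : Type (u + 1)))
  have hcomp' : ∀ y z, lqfProj f z T (Φ.presheafFiber.map (projPre f F G) (μ y)) = E z (D y z) := by
    intro y z
    induction y using TensorProduct.induction_on with
    | zero => simp only [map_zero, DirectSum.zero_apply]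
    | tmul x g =>
      rw [hcomp]
      refine congrArg (E z) ?_
      show _ = TensorProduct.directSumLeft ℤ ℤ M _ (e x ⊗ₜ g) z
      rw [TensorProduct.directSumLeft_tmul]
      exact congrArg (fun m : M z => m ⊗ₜ[ℤ] g) (he x z).symm
    | add a b ha hb => simp only [map_add, DirectSum.add_apply, ha, hb]
  refine ⟨fun y y' hy => ?_, fun x => ?_⟩
  · refine D.injective (DFinsupp.ext fun z => (hE z).1 ?_)
    rw [← hcomp', ← hcomp']
    exact congrArg _ hy
  · choose w hw using fun z : P => (hE z).2 (lqfProj f z T x)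
    let d : DirectSum P (fun z => M z ⊗[ℤ] (Fib η G.obj : Type (u + 1))) :=
      DFinsupp.mk (finite_lqfProj f T x).toFinset fun z => w z.1
    refine ⟨D.symm d, sub_eq_zero.1 (injective_lqfProj f T _ fun z => ?_)⟩
    rw [map_sub, sub_eq_zero, hcomp', LinearEquiv.apply_symm_apply]
    show E z ((DFinsupp.mk (finite_lqfProj f T x).toFinset fun z => w z.1 :
      DirectSum P (fun z => M z ⊗[ℤ] (Fib η G.obj : Type (u + 1)))) z) = _
    rw [DFinsupp.mk_apply]
    split_ifs with hz
    · exact hw z
    · rw [map_zero]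
      by_contra hne
      exact hz ((Set.Finite.mem_toFinset _).2 (Ne.symm hne))

end ShriekLib
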