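import Groth.Agent.ShriekLib.Coprod
import Groth.Agent.EtFound.Stalk
import Mathlib.Algebra.Homology.ShortComplex.ExactFunctor

/-!
# Left exactness of sections with proper support
-/

universe u

open CategoryTheory CategoryTheory.Limits AlgebraicGeometry Opposite

namespace ShriekLib

set_option backward.isDefEq.respectTransparency false
set_option backward.isDefEq.respectTransparency.types false
set_option linter.unusedSectionVars false
set_option linter.style.haveILetI false

open Groth.Agent

variable {X Y : Scheme.{u}} (f : X ⟶ Y) [LocallyOfFiniteType f]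

instance additive_shriekSh : (shriekSh f).Additive where
  map_add {F G φ ψ} := by
    refine ObjectProperty.hom_ext _ ?_
    ext V x
    rfl

theorem sectSupp_app_of_mono {F G : EtCoh.Ab X} (α : F ⟶ G) [Mono α] (U : X.Etale) (s : EtCoh.sect F U) :
    EtShriek.sectSupp G U (α.hom.app (op U) s) = EtShriek.sectSupp F U s := by
  refine Set.Subset.antisymm (sectSupp_app α U s) fun x hx W g hw h0 => hx W g hw ?_
  have hinj : Function.Injective (α.hom.app (op W)) :=
    EtFound.injective_of_stalks α (fun Ω _ _ ξ => (EtFound.mono_iff_stalks α).1 inferInstance Ω ξ) W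
  refine hinj (((NatTrans.naturality_apply α.hom g.op s).trans h0).trans (map_zero _).symm)

theorem shriekSh_preservesFiniteLimits : PreservesFiniteLimits (shriekSh f) := by
  rw [Functor.preservesFiniteLimits_iff_forall_exact_map_and_mono]
  intro S hS
  haveI := hS.mono_f
  refine ⟨(EtFound.exact_iff_stalks _).2 fun Ω _ _ η => (ShortComplex.ab_exact_iff _).2 fun y hy => ?_, ?_⟩
  · obtain ⟨V, v, t, rfl⟩ := (Scheme.pointSmallEtale η).toPresheafFiber_jointly_surjective y
    have h0 : (Scheme.pointSmallEtale η).toPresheafFiber V v ((shriekSh f).obj S.X₃).obj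
        (((shriekSh f).map S.g).hom.app (op V) t) = (Scheme.pointSmallEtale η).toPresheafFiber V v ((shriekSh f).obj S.X₃).obj 0 :=
      ((Scheme.pointSmallEtale η).toPresheafFiber_naturality_apply ((shriekSh f).map S.g).hom V v t).symm.trans
        (hy.trans (map_zero _).symm)
    obtain ⟨V', g, v', hv, hg⟩ := ((Scheme.pointSmallEtale η).toPresheafFiber_eq_iff' _ _ _ _).1 h0
    rw [map_zero] at hg
    let t' : EtShriek.shriekSubgroup f S.X₂ V' := ((shriekSh f).obj S.X₂).obj.map g.op t
    have ht' : S.g.hom.app (op ((EtCoh.bc f).obj V')) t'.1 = 0 := by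
      refine Eq.trans ?_ (congrArg Subtype.val hg)
      exact NatTrans.naturality_apply S.g.hom ((EtCoh.bc f).map g).op t.1
    let ev := sheafToPresheaf X.smallEtaleTopology AddCommGrpCat.{u + 1} ⋙ (evaluation _ _).obj (op ((EtCoh.bc f).obj V'))
    haveI : ev.Additive := { map_add := fun {_ _ _ _} => rfl }
    haveI : PreservesFiniteLimits ev := inferInstanceAs (PreservesFiniteLimits
      (sheafToPresheaf X.smallEtaleTopology AddCommGrpCat.{u + 1} ⋙ (evaluation _ _).obj (op ((EtCoh.bc f).obj V'))))
    have hex := ((Functor.preservesFiniteLimits_iff_forall_exact_map_and_mono ev).1 inferInstance S hS).1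
    obtain ⟨s, hs⟩ := (ShortComplex.ab_exact_iff _).1 hex t'.1 ht'
    have hs' : S.f.hom.app (op ((EtCoh.bc f).obj V')) s = t'.1 := hs
    have hmem : s ∈ EtShriek.shriekSubgroup f S.X₁ V' := by
      rw [mem_shriekSubgroup_iff, ← sectSupp_app_of_mono S.f, hs']
      exact (mem_shriekSubgroup_iff f _ V' _).1 t'.2
    refine ⟨(Scheme.pointSmallEtale η).toPresheafFiber V' v' ((shriekSh f).obj S.X₁).obj ⟨s, hmem⟩, ?_⟩
    refine ((Scheme.pointSmallEtale η).toPresheafFiber_naturality_apply ((shriekSh f).map S.f).hom V' v' _).trans ?_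
    rw [show ((shriekSh f).map S.f).hom.app (op V') ⟨s, hmem⟩ = t' from Subtype.ext hs',
      (Scheme.pointSmallEtale η).toPresheafFiber_w_apply, hv]
    rfl
  · have : ∀ V, Mono (((shriekSh f).map S.f).hom.app V) := fun V =>
      (AddCommGrpCat.mono_iff_injective _).2 fun a b h => Subtype.ext
        (EtFound.injective_of_stalks S.f (fun Ω _ _ ξ => (EtFound.mono_iff_stalks S.f).1 inferInstance Ω ξ) _
          (congrArg Subtype.val h))
    have := NatTrans.mono_of_mono_app ((shriekSh f).map S.f).hom
    exact (sheafToPresheaf _ _).mono_of_mono_map this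

end ShriekLib
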