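import Groth.Agent.ShriekLib.Comp
import Groth.Agent.ShriekLib.LeftExact

/-!
# The composition isomorphism of `f_!` and the inclusions into direct images
-/

universe u

open CategoryTheory CategoryTheory.Limits AlgebraicGeometry Opposite

namespace ShriekLib

set_option backward.isDefEq.respectTransparency false
set_option backward.isDefEq.respectTransparency.types false
set_option linter.unusedSectionVars false
set_option linter.style.haveILetI false

open Groth.Agent

variable {X Y Z : Scheme.{u}}

theorem shriekShIso_hom_toPush (f : X ⟶ Y) [LocallyOfFiniteType f] (F : EtCoh.Ab X) :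
    (shriekShIso f).hom.app F ≫ EtShriek.lowerShriekToPush f F = (shriekShι f).app F := by
  let adj := sheafificationAdjunction Y.smallEtaleTopology AddCommGrpCat.{u + 1}
  haveI : IsIso (adj.counit.app ((shriekSh f).obj F)) := inferInstance
  have e : (shriekShIso f).hom.app F = inv (adj.counit.app ((shriekSh f).obj F)) := by
    simp [shriekShIso, adj]
  rw [e, IsIso.inv_comp_eq]
  show (adj.homEquiv _ _).symm _ = _
  rw [Adjunction.homEquiv_counit]
  exact adj.counit.naturality ((shriekShι f).app F)

theorem pushComp_inv_app (h : X ⟶ Y) (g : Y ⟶ Z) (F : EtCoh.Ab X) (V : Z.Etale)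
    (s : EtCoh.sect F ((EtCoh.bc (h ≫ g)).obj V)) :
    ((EtCoh.pushComp g h).inv.app F).hom.app (op V) s = F.obj.map (bcIso h g V).hom.op s := by
  have e : (((MorphismProperty.Over.pullbackComp (P := EtCoh.etaleMP) (Q := ⊤) h g).symm :
      EtCoh.bc g ⋙ EtCoh.bc h ≅ EtCoh.bc (h ≫ g))).hom.app V = (bcIso h g V).hom := by
    refine MorphismProperty.Over.Hom.ext ?_
    apply pullback.hom_ext <;> simp [MorphismProperty.Over.pullbackComp, bcIso]
  rw [← e]
  rfl

variable (h : X ⟶ Y) (g : Y ⟶ Z) [LocallyOfFiniteType h] [IsSeparated g] [LocallyOfFiniteType g]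

theorem shriekShComp_ι (F : EtCoh.Ab X) :
    (shriekShComp h g).hom.app F ≫ (shriekSh g).map ((shriekShι h).app F) ≫
        (shriekShι g).app ((EtCoh.push h).obj F) =
      (shriekShι (h ≫ g)).app F ≫ (EtCoh.pushComp g h).inv.app F := by
  refine ObjectProperty.hom_ext _ ?_
  ext V s
  exact (pushComp_inv_app h g F V.unop s.1).symm

theorem existsUnique_comp :
    ∃! φ : EtShriek.lowerShriek (h ≫ g) ≅ EtShriek.lowerShriek h ⋙ EtShriek.lowerShriek g,
      ∀ F : EtCoh.Ab X,
        φ.hom.app F ≫ (EtShriek.lowerShriek g).map (EtShriek.lowerShriekToPush h F) ≫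
            EtShriek.lowerShriekToPush g ((EtCoh.push h).obj F) =
          EtShriek.lowerShriekToPush (h ≫ g) F ≫ (EtCoh.pushComp g h).inv.app F := by
  refine ⟨(shriekShIso (h ≫ g)).symm ≪≫ shriekShComp h g ≪≫ Functor.isoWhiskerRight (shriekShIso h) _ ≪≫
    Functor.isoWhiskerLeft _ (shriekShIso g), fun F => ?_, fun φ hφ => ?_⟩
  · rw [← cancel_epi ((shriekShIso (h ≫ g)).hom.app F), ← Category.assoc ((shriekShIso (h ≫ g)).hom.app F)
      (EtShriek.lowerShriekToPush _ F), shriekShIso_hom_toPush, ← shriekShComp_ι h g F]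
    simp only [Iso.trans_hom, Iso.symm_hom, NatTrans.comp_app, Functor.isoWhiskerRight_hom, Functor.whiskerRight_app,
      Functor.isoWhiskerLeft_hom, Functor.whiskerLeft_app, Category.assoc, Iso.hom_inv_id_app_assoc]
    rw [← (shriekShIso g).hom.naturality_assoc (EtShriek.lowerShriekToPush h F), ← Functor.map_comp_assoc,
      shriekShIso_hom_toPush, shriekShIso_hom_toPush]
  · refine Iso.ext (NatTrans.ext (funext fun F => ?_))
    haveI : Mono ((EtShriek.lowerShriek g).map (EtShriek.lowerShriekToPush h F)) := by
      haveI : PreservesFiniteLimits (EtShriek.lowerShriek g) :=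
        haveI := shriekSh_preservesFiniteLimits g
        preservesFiniteLimits_of_natIso (shriekShIso g)
      haveI : Mono (EtShriek.lowerShriekToPush h F) := by
        rw [show EtShriek.lowerShriekToPush h F = (shriekShIso h).inv.app F ≫ (shriekShι h).app F by
          rw [← shriekShIso_hom_toPush, Iso.inv_hom_id_app_assoc]]
        infer_instance
      infer_instance
    haveI : Mono (EtShriek.lowerShriekToPush g ((EtCoh.push h).obj F)) := by
      rw [show EtShriek.lowerShriekToPush g ((EtCoh.push h).obj F) = (shriekShIso g).inv.app _ ≫ (shriekShι g).app _ by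
        rw [← shriekShIso_hom_toPush, Iso.inv_hom_id_app_assoc]]
      infer_instance
    rw [← cancel_mono ((EtShriek.lowerShriek g).map (EtShriek.lowerShriekToPush h F) ≫
      EtShriek.lowerShriekToPush g ((EtCoh.push h).obj F)), hφ F]
    symm
    rw [← cancel_epi ((shriekShIso (h ≫ g)).hom.app F), ← Category.assoc ((shriekShIso (h ≫ g)).hom.app F)
      (EtShriek.lowerShriekToPush _ F), shriekShIso_hom_toPush, ← shriekShComp_ι h g F]
    simp only [Iso.trans_hom, Iso.symm_hom, NatTrans.comp_app, Functor.isoWhiskerRight_hom, Functor.whiskerRight_app,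
      Functor.isoWhiskerLeft_hom, Functor.whiskerLeft_app, Category.assoc, Iso.hom_inv_id_app_assoc]
    rw [← (shriekShIso g).hom.naturality_assoc (EtShriek.lowerShriekToPush h F), ← Functor.map_comp_assoc,
      shriekShIso_hom_toPush, shriekShIso_hom_toPush]

end ShriekLib
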