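import Groth.Agent.ShriekLib.IsSheaf
import Groth.Agent.EtFound.CoprodSections
import Groth.Agent.EtFound.PushOutside
import Mathlib.AlgebraicGeometry.Morphisms.FlatMono

/-!
# Extension of sections along graphs of separated etale morphisms
-/

universe u

open CategoryTheory CategoryTheory.Limits AlgebraicGeometry Opposite

namespace ShriekLib

set_option backward.isDefEq.respectTransparency false
set_option backward.isDefEq.respectTransparency.types false

open Groth.Agent

variable {X Y : Scheme.{u}}

theorem eq_zero_of_sectSupp_empty {F : EtCoh.Ab X} {U : X.Etale} {s : EtCoh.sect F U}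
    (h : EtShriek.sectSupp F U s = ∅) : s = 0 := by
  refine EtFound.eq_of_cover (A := AddCommGrpCat.{u + 1}) F s 0 ((EtFound.mem_topology_iff _).2 fun x => ?_)
  obtain ⟨W, g, ⟨w, hw⟩, h0⟩ := not_mem_sectSupp.1 (show x ∉ EtShriek.sectSupp F U s by rw [h]; exact id)
  exact ⟨W, g, w, h0.trans (map_zero _).symm, hw⟩

variable {U : Scheme.{u}} (j : U ⟶ X) [AlgebraicGeometry.Etale j]

/-- the graph of an etale `U`-scheme in its base change -/
noncomputable def graph (W : U.Etale) : W ⟶ (EtCoh.bc j).obj ((EtShriek.compEtale j).obj W) :=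
  MorphismProperty.Over.homMk (pullback.lift (𝟙 W.left) W.hom (Category.id_comp _))
    (pullback.lift_snd (𝟙 W.left) W.hom (Category.id_comp _))

theorem graph_fst (W : U.Etale) :
    (graph j W).left ≫ EtShriek.prV j ((EtShriek.compEtale j).obj W) = 𝟙 _ :=
  pullback.lift_fst _ _ _

theorem graph_snd (W : U.Etale) :
    (graph j W).left ≫ ((EtCoh.bc j).obj ((EtShriek.compEtale j).obj W)).hom = W.hom :=
  MorphismProperty.Over.w _

instance (V : X.Etale) : AlgebraicGeometry.Etale (EtShriek.prV j V) :=
  inferInstanceAs (AlgebraicGeometry.Etale (pullback.fst V.hom j))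

instance graph_isSplitMono (W : U.Etale) : Mono (graph j W).left := mono_of_mono_fac (graph_fst j W)

instance graph_isOpenImmersion (W : U.Etale) : IsOpenImmersion (graph j W).left :=
  have := EtFound.etale_left (graph j W)
  IsOpenImmersion.of_flat_of_mono _

instance graph_mono (W : U.Etale) : Mono (graph j W) :=
  ⟨fun a b h => MorphismProperty.Over.Hom.ext
    ((cancel_mono (graph j W).left).1 (congrArg (fun t => t.left) h))⟩

variable [IsSeparated j]

instance (V : X.Etale) : IsSeparated (EtShriek.prV j V) :=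
  inferInstanceAs (IsSeparated (pullback.fst V.hom j))

instance graph_isClosedImmersion (W : U.Etale) : IsClosedImmersion (graph j W).left := by
  have : IsClosedImmersion ((graph j W).left ≫ EtShriek.prV j ((EtShriek.compEtale j).obj W)) := by
    rw [graph_fst]; infer_instance
  exact IsClosedImmersion.of_comp (graph j W).left (EtShriek.prV j ((EtShriek.compEtale j).obj W))

/-- the defining property of the extension of a section along the graph -/
def IsExt (F : EtCoh.Ab U) (W : U.Etale) (s : EtCoh.sect F W)
    (t : EtCoh.sect F ((EtCoh.bc j).obj ((EtShriek.compEtale j).obj W))) : Prop :=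
  F.obj.map (graph j W).op t = s ∧
    EtShriek.sectSupp F _ t ⊆ Set.range (graph j W).left.base

theorem isExt_unique {F : EtCoh.Ab U} {W : U.Etale} {s : EtCoh.sect F W}
    {t t' : EtCoh.sect F ((EtCoh.bc j).obj ((EtShriek.compEtale j).obj W))}
    (h : IsExt j F W s t) (h' : IsExt j F W s t') : t = t' := by
  rw [← sub_eq_zero]
  refine eq_zero_of_sectSupp_empty (Set.eq_empty_iff_forall_notMem.2 fun x hx => ?_)
  have hx' : x ∈ Set.range (graph j W).left.base := by
    rw [sub_eq_add_neg] at hx
    rcases sectSupp_add F _ t (-t') hx with h1 | h1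
    · exact h.2 h1
    · rw [sectSupp_neg] at h1; exact h'.2 h1
  obtain ⟨w, rfl⟩ := hx'
  have h0 : w ∈ EtShriek.sectSupp F W (F.obj.map (graph j W).op (t - t')) := by
    rw [sectSupp_map]; exact hx
  rw [map_sub, h.1, h'.1, sub_self, sectSupp_zero] at h0
  exact h0

theorem exists_isExt (F : EtCoh.Ab U) (W : U.Etale) (s : EtCoh.sect F W) : ∃ t, IsExt j F W s t := by
  let T := (EtCoh.bc j).obj ((EtShriek.compEtale j).obj W)
  let O : T.left.Opens := ⟨(Set.range (graph j W).left.base)ᶜ,
    (graph j W).left.isClosedEmbedding.isClosed_range.isOpen_compl⟩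
  let Z : Bool → U.Etale := fun b => bif b then W else EtFound.restrictEtale T O
  let g : ∀ b, Z b ⟶ T := fun b => match b with
    | true => graph j W
    | false => EtFound.restrictEtaleHom T O
  have : ∀ b, Mono (g b) := fun b => match b with
    | true => graph_mono j W
    | false => ⟨fun a a' h => MorphismProperty.Over.Hom.ext
        ((cancel_mono O.ι).1 (congrArg (fun t => t.left) h))⟩
  have hcov : ∀ x : T.left, ∃ (b : Bool) (z : (Z b).left), (g b).left.base z = x := fun x => by
    by_cases hx : x ∈ Set.range (graph j W).left.base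
    · obtain ⟨z, hz⟩ := hx; exact ⟨true, z, hz⟩
    · exact ⟨false, ⟨x, hx⟩, rfl⟩
  have hdisj : ∀ b b', b ≠ b' → ∀ a a', (g b).left.base a ≠ (g b').left.base a' := by
    rintro (_ | _) (_ | _) hbb a a' e
    · exact hbb rfl
    · exact a.2 ⟨a', e.symm⟩
    · exact a'.2 ⟨a, e⟩
    · exact hbb rfl
  obtain ⟨t, ht⟩ := (EtFound.bijective_sections_of_disjoint F Z g hcov hdisj).2
    (fun b => match b with | true => s | false => 0)
  refine ⟨t, congrFun ht true, fun x hx => ?_⟩
  by_contra hx'
  exact (not_mem_sectSupp.2 ⟨Z false, g false, ⟨⟨x, hx'⟩, rfl⟩, congrFun ht false⟩) hx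

/-- extension of a section along the graph -/
noncomputable def extSec (F : EtCoh.Ab U) (W : U.Etale) (s : EtCoh.sect F W) :
    EtCoh.sect F ((EtCoh.bc j).obj ((EtShriek.compEtale j).obj W)) :=
  (exists_isExt j F W s).choose

theorem isExt_extSec (F : EtCoh.Ab U) (W : U.Etale) (s : EtCoh.sect F W) : IsExt j F W s (extSec j F W s) :=
  (exists_isExt j F W s).choose_spec

theorem extSec_add (F : EtCoh.Ab U) (W : U.Etale) (s s' : EtCoh.sect F W) :
    extSec j F W (s + s') = extSec j F W s + extSec j F W s' := by
  refine isExt_unique j (isExt_extSec j F W _) ⟨?_, ?_⟩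
  · rw [map_add, (isExt_extSec j F W s).1, (isExt_extSec j F W s').1]
  · exact (sectSupp_add F _ _ _).trans (Set.union_subset (isExt_extSec j F W s).2 (isExt_extSec j F W s').2)

theorem graph_naturality {W W' : U.Etale} (h : W' ⟶ W) :
    graph j W' ≫ (EtCoh.bc j).map ((EtShriek.compEtale j).map h) = h ≫ graph j W := by
  have hh : h.left ≫ W.hom = W'.hom := MorphismProperty.Over.w h
  refine MorphismProperty.Over.Hom.ext ?_
  have h1 : ((EtCoh.bc j).map ((EtShriek.compEtale j).map h)).left ≫
      pullback.fst (W.hom ≫ j) j = pullback.fst (W'.hom ≫ j) j ≫ h.left := pullback.lift_fst _ _ _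
  have h2 : ((EtCoh.bc j).map ((EtShriek.compEtale j).map h)).left ≫
      pullback.snd (W.hom ≫ j) j = pullback.snd (W'.hom ≫ j) j := pullback.lift_snd _ _ _
  apply pullback.hom_ext
  · show ((graph j W').left ≫ _) ≫ _ = (h.left ≫ (graph j W).left) ≫ _
    rw [Category.assoc, Category.assoc]
    erw [h1, ← Category.assoc, graph_fst, graph_fst, Category.id_comp]
  · show ((graph j W').left ≫ _) ≫ _ = (h.left ≫ (graph j W).left) ≫ _
    rw [Category.assoc, Category.assoc]
    erw [h2, graph_snd, graph_snd, hh]

theorem preimage_range_graph {W W' : U.Etale} (h : W' ⟶ W) :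
    ((EtCoh.bc j).map ((EtShriek.compEtale j).map h)).left.base ⁻¹' Set.range (graph j W).left.base ⊆
      Set.range (graph j W').left.base := by
  have hh : h.left ≫ W.hom = W'.hom := MorphismProperty.Over.w h
  let c := ((EtCoh.bc j).map ((EtShriek.compEtale j).map h)).left
  have h1 : c ≫ EtShriek.prV j ((EtShriek.compEtale j).obj W) =
      EtShriek.prV j ((EtShriek.compEtale j).obj W') ≫ h.left := pullback.lift_fst _ _ _
  have h2 : c ≫ ((EtCoh.bc j).obj ((EtShriek.compEtale j).obj W)).hom =
      ((EtCoh.bc j).obj ((EtShriek.compEtale j).obj W')).hom :=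
    MorphismProperty.Over.w ((EtCoh.bc j).map ((EtShriek.compEtale j).map h))
  let a := pullback.fst c (graph j W).left
  let b := pullback.snd c (graph j W).left
  have hb : (a ≫ EtShriek.prV j ((EtShriek.compEtale j).obj W')) ≫ h.left = b := by
    rw [Category.assoc, ← h1, ← Category.assoc, pullback.condition, Category.assoc, graph_fst, Category.comp_id]
  have hsnd : a ≫ ((EtCoh.bc j).obj ((EtShriek.compEtale j).obj W')).hom =
      (a ≫ EtShriek.prV j ((EtShriek.compEtale j).obj W')) ≫ W'.hom := by
    rw [← h2, ← Category.assoc, pullback.condition, Category.assoc, graph_snd, ← hh, ← Category.assoc, hb]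
  have ha : a = (a ≫ EtShriek.prV j ((EtShriek.compEtale j).obj W')) ≫ (graph j W').left := by
    apply pullback.hom_ext
    · show a ≫ EtShriek.prV j _ = (_ ≫ _) ≫ EtShriek.prV j ((EtShriek.compEtale j).obj W')
      rw [Category.assoc _ (graph j W').left, graph_fst, Category.comp_id]
    · refine hsnd.trans ?_
      show _ = (_ ≫ _) ≫ ((EtCoh.bc j).obj ((EtShriek.compEtale j).obj W')).hom
      rw [Category.assoc _ (graph j W').left, graph_snd]
  intro x hx
  have hx' : x ∈ Set.range a := by
    rw [Scheme.Pullback.range_fst]; exact hx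
  obtain ⟨z, rfl⟩ := hx'
  exact ⟨(a ≫ EtShriek.prV j ((EtShriek.compEtale j).obj W')).base z,
    (Scheme.Hom.comp_apply _ _ _).symm.trans (congr($(ha.symm) z))⟩

theorem extSec_map (F : EtCoh.Ab U) {W W' : U.Etale} (h : W' ⟶ W) (s : EtCoh.sect F W) :
    F.obj.map ((EtCoh.bc j).map ((EtShriek.compEtale j).map h)).op (extSec j F W s) =
      extSec j F W' (F.obj.map h.op s) := by
  refine (isExt_unique j (isExt_extSec j F W' _) ⟨?_, ?_⟩).symm
  · rw [map_map, graph_naturality, ← map_map, (isExt_extSec j F W s).1]
  · rw [sectSupp_map]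
    exact (Set.preimage_mono (isExt_extSec j F W s).2).trans (preimage_range_graph j h)

theorem extSec_app {F G : EtCoh.Ab U} (α : F ⟶ G) (W : U.Etale) (s : EtCoh.sect F W) :
    α.hom.app _ (extSec j F W s) = extSec j G W (α.hom.app (op W) s) := by
  refine (isExt_unique j (isExt_extSec j G W _) ⟨?_, ?_⟩).symm
  · rw [← NatTrans.naturality_apply, (isExt_extSec j F W s).1]
  · exact (sectSupp_app α _ _).trans (isExt_extSec j F W s).2

theorem extSec_mem (F : EtCoh.Ab U) (W : U.Etale) (s : EtCoh.sect F W) :
    extSec j F W s ∈ EtShriek.shriekSubgroup j F ((EtShriek.compEtale j).obj W) := by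
  rw [mem_shriekSubgroup_iff]
  have : IsProper ((graph j W).left ≫ EtShriek.prV j ((EtShriek.compEtale j).obj W)) := by
    rw [graph_fst]; infer_instance
  exact QCoh.IsProperOver.subset (QCoh.isProperOver_range (graph j W).left) (isClosed_sectSupp _ _ _)
    (isExt_extSec j F W s).2

end ShriekLib
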