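import Groth.Prelude.Def_EtShriek2
import Groth.Agent.EtFound.GermSupp
import Groth.Agent.QCoh.ProperOver2

/-!
# Supports of sections and sections with proper support
-/

universe u

open CategoryTheory CategoryTheory.Limits AlgebraicGeometry Opposite

namespace ShriekLib

set_option backward.isDefEq.respectTransparency false
set_option backward.isDefEq.respectTransparency.types false

open Groth.Agent

variable {X Y : Scheme.{u}}

theorem map_map (F : EtCoh.Ab X) {U V W : X.Etale} (g : V ⟶ U) (h : W ⟶ V) (s : EtCoh.sect F U) :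
    F.obj.map h.op (F.obj.map g.op s) = F.obj.map (h ≫ g).op s := by
  rw [op_comp, F.obj.map_comp]
  rfl

theorem not_mem_sectSupp {F : EtCoh.Ab X} {U : X.Etale} {s : EtCoh.sect F U} {x : U.left} :
    x ∉ EtShriek.sectSupp F U s ↔
      ∃ (W : X.Etale) (g : W ⟶ U), (∃ w : W.left, g.left.base w = x) ∧ F.obj.map g.op s = 0 := by
  simp only [EtShriek.sectSupp, Set.mem_setOf_eq, not_forall, ne_eq, not_not]
  exact ⟨fun ⟨W, g, h, e⟩ => ⟨W, g, h, e⟩, fun ⟨W, g, h, e⟩ => ⟨W, g, h, e⟩⟩

/-- two neighbourhoods have a common refinement -/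
theorem exists_common {U W W' : X.Etale} (g : W ⟶ U) (g' : W' ⟶ U) (w : W.left) (w' : W'.left)
    (hw : g.left.base w = g'.left.base w') :
    ∃ (V : X.Etale) (a : V ⟶ W) (b : V ⟶ W'), a ≫ g = b ≫ g' ∧ ∃ v : V.left, a.left.base v = w ∧ b.left.base v = w' := by
  haveI : AlgebraicGeometry.Etale g'.left := EtFound.etale_left g'
  haveI : AlgebraicGeometry.Etale W.hom := W.prop
  let q := pullback.fst g.left g'.left
  haveI : AlgebraicGeometry.Etale q := inferInstanceAs (AlgebraicGeometry.Etale (pullback.fst g.left g'.left))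
  let V : X.Etale := Scheme.Etale.mk (q ≫ W.hom)
  let a : V ⟶ W := MorphismProperty.Over.homMk q rfl
  have hb : pullback.snd g.left g'.left ≫ W'.hom = q ≫ W.hom := by
    rw [← MorphismProperty.Over.w g', ← MorphismProperty.Over.w g, ← Category.assoc, ← Category.assoc]
    exact congrArg (· ≫ U.hom) pullback.condition.symm
  let b : V ⟶ W' := MorphismProperty.Over.homMk (pullback.snd g.left g'.left) hb
  obtain ⟨v, h1, h2⟩ := Scheme.Pullback.exists_preimage_pullback (f := g.left) (g := g'.left) w w' hw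
  exact ⟨V, a, b, MorphismProperty.Over.Hom.ext pullback.condition, v, h1, h2⟩

theorem isClosed_sectSupp (F : EtCoh.Ab X) (U : X.Etale) (s : EtCoh.sect F U) :
    IsClosed (EtShriek.sectSupp F U s) := by
  refine ⟨isOpen_iff_forall_mem_open.2 fun x hx => ?_⟩
  obtain ⟨W, g, hw, h0⟩ := not_mem_sectSupp.1 hx
  haveI : AlgebraicGeometry.Etale g.left := EtFound.etale_left g
  refine ⟨Set.range g.left.base, ?_, g.left.isOpenMap.isOpen_range, ?_⟩
  · rintro _ ⟨w, rfl⟩
    exact not_mem_sectSupp.2 ⟨W, g, ⟨w, rfl⟩, h0⟩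
  · obtain ⟨w, rfl⟩ := hw
    exact ⟨w, rfl⟩

theorem sectSupp_zero (F : EtCoh.Ab X) (U : X.Etale) : EtShriek.sectSupp F U 0 = ∅ := by
  refine Set.eq_empty_iff_forall_notMem.2 fun x => not_mem_sectSupp.2 ⟨U, 𝟙 U, ⟨x, rfl⟩, map_zero _⟩

theorem sectSupp_neg (F : EtCoh.Ab X) (U : X.Etale) (s : EtCoh.sect F U) :
    EtShriek.sectSupp F U (-s) = EtShriek.sectSupp F U s := by
  ext x
  simp [EtShriek.sectSupp, map_neg]

theorem sectSupp_add (F : EtCoh.Ab X) (U : X.Etale) (s t : EtCoh.sect F U) :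
    EtShriek.sectSupp F U (s + t) ⊆ EtShriek.sectSupp F U s ∪ EtShriek.sectSupp F U t := by
  intro x hx
  by_contra h
  rw [Set.mem_union, not_or] at h
  obtain ⟨W, g, ⟨w, hw⟩, h0⟩ := not_mem_sectSupp.1 h.1
  obtain ⟨W', g', ⟨w', hw'⟩, h0'⟩ := not_mem_sectSupp.1 h.2
  obtain ⟨V, a, b, e, v, hv, -⟩ := exists_common g g' w w' (hw.trans hw'.symm)
  refine hx V (a ≫ g) ⟨v, ?_⟩ ?_
  · exact (Scheme.Hom.comp_apply _ _ _).trans ((congrArg g.left.base hv).trans hw)
  · rw [map_add]
    conv_lhs => arg 2; rw [e]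
    rw [← map_map, ← map_map, h0, h0', map_zero, map_zero, add_zero]

theorem sectSupp_map (F : EtCoh.Ab X) {U W : X.Etale} (g : W ⟶ U) (s : EtCoh.sect F U) :
    EtShriek.sectSupp F W (F.obj.map g.op s) = g.left.base ⁻¹' EtShriek.sectSupp F U s := by
  ext w
  rw [← not_iff_not, Set.mem_preimage, not_mem_sectSupp, not_mem_sectSupp]
  constructor
  · rintro ⟨V, h, ⟨v, hv⟩, h0⟩
    refine ⟨V, h ≫ g, ⟨v, (Scheme.Hom.comp_apply _ _ _).trans (congrArg g.left.base hv)⟩, ?_⟩
    rwa [← map_map]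
  · rintro ⟨V, h, ⟨v, hv⟩, h0⟩
    obtain ⟨V', a, b, e, v', hv', -⟩ := exists_common g h w v hv.symm
    refine ⟨V', a, ⟨v', hv'⟩, ?_⟩
    rw [map_map, e, ← map_map, h0, map_zero]

theorem sectSupp_app {F G : EtCoh.Ab X} (α : F ⟶ G) (U : X.Etale) (s : EtCoh.sect F U) :
    EtShriek.sectSupp G U (α.hom.app (op U) s) ⊆ EtShriek.sectSupp F U s :=
  EtShriek.sectSupp_map_subset α U s

/-- the support is the set of points with nonzero germ -/
theorem sectSupp_eq_germSupp (F : EtCoh.Ab X) (U : X.Etale) (s : EtCoh.sect F U) :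
    EtShriek.sectSupp F U s = EtFound.germSupp F U s := by
  ext q
  obtain ⟨k, _, _, ξ, z, rfl⟩ := EtFound.exists_algClosed_point U q
  refine Iff.trans ?_ (EtFound.mem_germSupp_iff s z).symm
  rw [← not_iff_not, not_not]
  refine not_mem_sectSupp.trans ?_
  constructor
  · rintro ⟨W, g, ⟨w, hw⟩, h0⟩
    obtain ⟨u, hu, -⟩ := EtFound.exists_lift_point g z w hw
    rw [← hu, ← (Scheme.pointSmallEtale ξ).toPresheafFiber_w_apply, h0, map_zero]
  · intro h0
    rw [← map_zero ((Scheme.pointSmallEtale ξ).toPresheafFiber U z F.obj).hom] at h0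
    obtain ⟨V, f, v, hv, hf⟩ := ((Scheme.pointSmallEtale ξ).toPresheafFiber_eq_iff' U z _ _).1 h0
    refine ⟨V, f, ⟨EtFound.ptOf v, ?_⟩, hf.trans (map_zero _)⟩
    subst hv
    exact (EtFound.ptOf_map f v).symm

/-- base change of the projection -/
theorem isPullback_prV (f : X ⟶ Y) {V V' : Y.Etale} (φ : V' ⟶ V) :
    IsPullback ((EtCoh.bc f).map φ).left (EtShriek.prV f V') (EtShriek.prV f V) φ.left := by
  have hφ : φ.left ≫ V.hom = V'.hom := MorphismProperty.Over.w φ
  have h1 : ((EtCoh.bc f).map φ).left ≫ pullback.fst V.hom f = pullback.fst V'.hom f ≫ φ.left :=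
    pullback.lift_fst _ _ _
  have h2 : ((EtCoh.bc f).map φ).left ≫ pullback.snd V.hom f = pullback.snd V'.hom f :=
    pullback.lift_snd _ _ _
  have outer : IsPullback (pullback.fst V'.hom f) (pullback.snd V'.hom f) (φ.left ≫ V.hom) f := by
    rw [hφ]; exact IsPullback.of_hasPullback _ _
  refine (IsPullback.of_bot (v₂₁ := pullback.snd V.hom f) (v₂₂ := V.hom) ?_ h1.symm
    (IsPullback.of_hasPullback V.hom f)).flip
  rw [h2]
  exact outer

variable (f : X ⟶ Y) [LocallyOfFiniteType f]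

instance (V : Y.Etale) : LocallyOfFiniteType (EtShriek.prV f V) :=
  inferInstanceAs (LocallyOfFiniteType (pullback.fst V.hom f))

theorem shriekPred_iff (F : EtCoh.Ab X) (V : Y.Etale) (s : EtCoh.sect F ((EtCoh.bc f).obj V)) :
    EtShriek.ShriekPred f F V s ↔
      ClSub.IsProperOver (EtShriek.prV f V) (EtShriek.sectSupp F _ s) := by
  constructor
  · intro h
    obtain ⟨Z, hZ, hp⟩ := h V (𝟙 V)
    rw [(EtCoh.bc f).map_id, op_id, F.obj.map_id] at hZ
    exact QCoh.IsProperOver.subset hp (isClosed_sectSupp _ _ _) hZ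
  · intro h V' φ
    refine ⟨_, le_rfl, ?_⟩
    rw [sectSupp_map]
    exact QCoh.IsProperOver.baseChange (isPullback_prV f φ) h

theorem mem_shriekSubgroup_iff (F : EtCoh.Ab X) (V : Y.Etale) (s : EtCoh.sect F ((EtCoh.bc f).obj V)) :
    s ∈ EtShriek.shriekSubgroup f F V ↔
      ClSub.IsProperOver (EtShriek.prV f V) (EtShriek.sectSupp F _ s) := by
  let H : AddSubgroup (EtCoh.sect F ((EtCoh.bc f).obj V)) :=
    { carrier := {t | ClSub.IsProperOver (EtShriek.prV f V) (EtShriek.sectSupp F _ t)}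
      zero_mem' := by
        show ClSub.IsProperOver _ _
        rw [sectSupp_zero]
        exact QCoh.isProperOver_empty
      add_mem' := fun {a b} ha hb => QCoh.IsProperOver.subset (QCoh.IsProperOver.union ha hb)
        (isClosed_sectSupp _ _ _) (sectSupp_add _ _ a b)
      neg_mem' := fun {a} ha => by
        show ClSub.IsProperOver _ _
        rw [sectSupp_neg]
        exact ha }
  have hH : EtShriek.shriekSubgroup f F V = H := by
    refine le_antisymm ((AddSubgroup.closure_le H).2 fun t ht => (shriekPred_iff f F V t).1 ht)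
      fun t ht => AddSubgroup.subset_closure ((shriekPred_iff f F V t).2 ht)
  rw [hH]
  rfl

end ShriekLib
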